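import Cfsg.Agent.InvChar.EvenChar
import Cfsg.Agent.Lib.CharP.Parabolic
import Cfsg.Agent.Lib.Perm.Fpf.Main
import Cfsg.Agent.S0205

/-!
# The centraliser of `Ω₁(Z(T))` when `calLf` is empty

With `Z = Ω₁(Z(T))` and `M` a maximal 2-local over `C = C_G(Z)`: every member of `calL T` centralises `Z`,
`M` acts as a solvable group on `⟨Z ^ M⟩`, and if `C` lies in two maximal 2-locals then `M` is solvable and
`calL T` is empty.
-/

set_option autoImplicit false
set_option linter.unusedSectionVars false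
set_option linter.style.haveILetI false

namespace Cfsg.Agent.QTCentZ

open Subgroup
open scoped commutatorElement

universe u

variable {G : Type u} [Group G] [Finite G]

/-- `Ω₁(Z(T))`. -/
abbrev zt (T : Sylow 2 G) : Subgroup G := InvChar.EvenChar.zone (T : Subgroup G)

/-- Its centraliser. -/
abbrev cz (T : Sylow 2 G) : Subgroup G := centralizer (zt T : Set G)

/-- The span of the `M`-conjugates of `Ω₁(Z(T))`. -/
def hull (T : Sylow 2 G) (M : Subgroup G) : Subgroup G :=
  closure {v | ∃ m ∈ M, ∃ z ∈ zt T, m * z * m⁻¹ = v}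

/-- The largest perfect subgroup. -/
def perf (H : Subgroup G) : Subgroup G := sSup {L | L ≤ H ∧ ⁅L, L⁆ = L}

theorem perf_le (H : Subgroup G) : perf H ≤ H := sSup_le fun _ hL => hL.1

theorem le_perf {H L : Subgroup G} (h : L ≤ H) (hL : ⁅L, L⁆ = L) : L ≤ perf H := le_sSup ⟨h, hL⟩

theorem perf_perfect (H : Subgroup G) : ⁅perf H, perf H⁆ = perf H :=
  le_antisymm (commutator_le_self _) (sSup_le fun L hL =>
    hL.2.symm.le.trans (commutator_mono (le_sSup hL) (le_sSup hL)))

theorem le_normalizer_perf {H K : Subgroup G} (h : K ≤ normalizer (H : Set G)) :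
    K ≤ normalizer (perf H : Set G) := by
  refine Subgroup.le_normalizer_iff.2 fun g hg x hx => ?_
  have hle : (perf H).map (MulAut.conj g).toMonoidHom ≤ perf H := by
    refine le_perf ?_ (by rw [← map_commutator, perf_perfect])
    rintro _ ⟨y, hy, rfl⟩
    exact Subgroup.le_normalizer_iff.1 h g hg y (perf_le H hy)
  exact hle ⟨x, hx, rfl⟩

theorem solvable_of_perf {H : Subgroup G} (h : perf H = ⊥) : Group.IsSolvable H :=
  Perm.Fpf.solvable_of_no_perfect H fun L hL hc => le_bot_iff.1 (h ▸ le_perf hL (by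
    rw [← map_subtype_commutator, hc, ← MonoidHom.range_eq_map, range_subtype]))

theorem eq_bot_of_solvable {H L : Subgroup G} (hH : Group.IsSolvable H) (hLH : L ≤ H) (hL : ⁅L, L⁆ = L) :
    L = ⊥ := by
  by_contra hne
  haveI : Nontrivial L := (Subgroup.nontrivial_iff_ne_bot L).2 hne
  haveI : Group.IsSolvable L := solvable_of_solvable_injective (f := inclusion hLH) (inclusion_injective hLH)
  refine (IsSolvable.commutator_lt_top_of_nontrivial L).ne ?_
  refine map_injective L.subtype_injective ?_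
  rw [map_subtype_commutator, hL, ← MonoidHom.range_eq_map, range_subtype]

/-- A member of `calL` centralises `Ω₁(Z(T))` when `calLf` is empty. -/
theorem calL_centralizes (hE : Cfsg.IsOfEvenCharacteristic G) (T : Sylow 2 G)
    (hLf : Cfsg.calLf (T : Subgroup G) = ∅) {K : Subgroup G} (hK : K ∈ Cfsg.calL (T : Subgroup G)) :
    K ≤ cz T := by
  haveI : Fact (Nat.Prime 2) := ⟨Nat.prime_two⟩
  have hVK : Cfsg.moduleV K = ⊥ := by
    by_contra hne
    exact Set.notMem_empty K (hLf ▸ ⟨hK, InvChar.EvenChar.mem_calX hE T hK, hne⟩)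
  change ⁅InvChar.EvenChar.zone (Cfsg.pCoreOf 2 K), K⁆ = ⊥ at hVK
  set X := K ⊔ (T : Subgroup G) with hX
  set R := Cfsg.pCoreOf 2 X with hR
  have hXc : CharP.IsCharP 2 X := InvChar.EvenChar.charP_of_sylow_le hE T le_sup_right fun e =>
    hK.2.2 ((map_eq_bot_iff_of_injective _ X.subtype_injective).1 e)
  have hRT : R ≤ (T : Subgroup G) :=
    CharP.pCoreOf_le_of_isSylIn ((CharP.isSylIn_top_iff.2 ⟨T, rfl⟩).mono le_sup_right le_top)
  have hRK : R ≤ normalizer (K : Set G) := InvChar.EvenChar.normalizes hK.1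
  have hKA : K ≤ centralizer (InvChar.EvenChar.zone R : Set G) := by
    have hc1 : ⁅⁅InvChar.EvenChar.zone R, K⁆, K⁆ = ⊥ := by
      rw [← le_bot_iff, ← hVK]
      refine commutator_mono (commutator_le.2 fun a ha k hk => ?_) le_rfl
      have hc : ⁅a, k⁆ ∈ InvChar.EvenChar.zone R := by
        rw [show ⁅a, k⁆ = a * (k * a⁻¹ * k⁻¹) by rw [commutatorElement_def]; group]
        exact mul_mem ha (Subgroup.le_normalizer_iff.1
          (InvChar.EvenChar.le_normalizer_zone (CharP.le_normalizer_pCoreOf 2 X) : X ≤ _) k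
          ((le_sup_left : K ≤ X) hk) a⁻¹ (Subgroup.inv_mem _ ha))
      have hcK : ⁅a, k⁆ ∈ K := by
        rw [commutatorElement_def]
        exact mul_mem (Subgroup.le_normalizer_iff.1 hRK a (InvChar.EvenChar.zone_le R ha) k hk)
          (Subgroup.inv_mem _ hk)
      obtain ⟨⟨hcR, hcC⟩, hc2⟩ := InvChar.EvenChar.mem_zone.1 hc
      refine InvChar.EvenChar.mem_zone.2 ⟨⟨?_, centralizer_le
        (SetLike.coe_subset_coe.2 (InvChar.EvenChar.pCoreOf_le_of_mem_calC hK.1)) hcC⟩, hc2⟩
      exact CharP.le_pCoreOf (inf_le_right : R ⊓ K ≤ K)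
        ((le_inf ((le_sup_left : K ≤ X).trans (CharP.le_normalizer_pCoreOf 2 X)) le_normalizer).trans
          inf_normalizer_le_normalizer_inf)
        ((CharP.isPGroup_pCoreOf 2 X).to_le inf_le_left) ⟨hcR, hcK⟩
    have hc2 : ⁅⁅K, InvChar.EvenChar.zone R⁆, K⁆ = ⊥ := by
      rw [commutator_comm K (InvChar.EvenChar.zone R), hc1]
    have hc3 := commutator_commutator_eq_bot_of_rotate hc2 hc1
    rw [(InvChar.EvenChar.perfect_of_calC hK.1).2] at hc3
    exact commutator_eq_bot_iff_le_centralizer.1 hc3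
  refine hKA.trans (centralizer_le fun z hz => ?_)
  obtain ⟨⟨hzT, hzC⟩, hz2⟩ := InvChar.EvenChar.mem_zone.1 hz
  have hzc : z ∈ centralizer (R : Set G) := centralizer_le (SetLike.coe_subset_coe.2 hRT) hzC
  exact InvChar.EvenChar.mem_zone.2 ⟨⟨hXc ⟨(le_sup_right : (T : Subgroup G) ≤ X) hzT, hzc⟩, hzc⟩, hz2⟩

/-- The setting. -/
structure Hyp (T : Sylow 2 G) (M : Subgroup G) : Prop where
  even : Cfsg.IsOfEvenCharacteristic G
  lf : Cfsg.calLf (T : Subgroup G) = ∅
  mem : M ∈ Cfsg.maxTwoLocalsContaining (cz T)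
  two : ∃ N ∈ Cfsg.maxTwoLocalsContaining (cz T), N ≠ M

namespace Hyp

variable {T : Sylow 2 G} {M : Subgroup G} (h : Hyp T M)

theorem T_le_cz : (T : Subgroup G) ≤ cz T := fun _ ht =>
  mem_centralizer_iff.2 fun _ hz => ((InvChar.EvenChar.mem_zone.1 hz).1.2 _ ht).symm

theorem T_le {N : Subgroup G} (hN : N ∈ Cfsg.maxTwoLocalsContaining (cz T)) : (T : Subgroup G) ≤ N :=
  T_le_cz.trans hN.2

theorem core_ne {N : Subgroup G} (hN : Cfsg.IsTwoLocal N) : Cfsg.pCoreOf 2 N ≠ ⊥ := by
  obtain ⟨Q, hQ, hQ1, rfl⟩ := hN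
  exact fun e => hQ1 (le_bot_iff.1 (e ▸ CharP.le_pCoreOf le_normalizer le_rfl hQ))

include h

theorem flip {N : Subgroup G} (hN : N ∈ Cfsg.maxTwoLocalsContaining (cz T)) (hne : N ≠ M) : Hyp T N :=
  ⟨h.even, h.lf, hN, M, h.mem, hne.symm⟩

theorem charP : CharP.IsCharP 2 M :=
  InvChar.EvenChar.charP_of_sylow_le h.even T (T_le h.mem) (core_ne h.mem.1.1)

theorem core_le : Cfsg.pCoreOf 2 M ≤ (T : Subgroup G) :=
  haveI : Fact (Nat.Prime 2) := ⟨Nat.prime_two⟩
  CharP.pCoreOf_le_of_isSylIn ((CharP.isSylIn_top_iff.2 ⟨T, rfl⟩).mono (T_le h.mem) le_top)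

theorem zt_le : zt T ≤ InvChar.EvenChar.zone (Cfsg.pCoreOf 2 M) := by
  intro z hz
  obtain ⟨⟨hzT, hzC⟩, hz2⟩ := InvChar.EvenChar.mem_zone.1 hz
  have hzc : z ∈ centralizer (Cfsg.pCoreOf 2 M : Set G) := centralizer_le (SetLike.coe_subset_coe.2 h.core_le) hzC
  exact InvChar.EvenChar.mem_zone.2 ⟨⟨h.charP ⟨T_le h.mem hzT, hzc⟩, hzc⟩, hz2⟩

theorem hull_le : hull T M ≤ InvChar.EvenChar.zone (Cfsg.pCoreOf 2 M) := (closure_le _).2 (by
  rintro _ ⟨m, hm, z, hz, rfl⟩
  exact Subgroup.le_normalizer_iff.1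
    (InvChar.EvenChar.le_normalizer_zone (CharP.le_normalizer_pCoreOf 2 M)) m hm z (h.zt_le hz))

omit h in
theorem zt_le_hull : zt T ≤ hull T M := fun z hz =>
  subset_closure ⟨1, one_mem _, z, hz, by group⟩

omit h in
theorem le_normalizer_hull : M ≤ normalizer (hull T M : Set G) := by
  refine Subgroup.le_normalizer_iff.2 fun g hg x hx => ?_
  have hle : hull T M ≤ (hull T M).comap (MulAut.conj g).toMonoidHom := (closure_le _).2 (by
    rintro _ ⟨m, hm, z, hz, rfl⟩
    exact subset_closure ⟨g * m, mul_mem hg hm, z, hz, by simp [mul_assoc]⟩)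
  exact hle hx

omit h in
theorem cent_le : centralizer (hull T M : Set G) ≤ cz T := centralizer_le zt_le_hull

theorem core_cent : Cfsg.pCoreOf 2 M ≤ centralizer (hull T M : Set G) := fun x hx =>
  mem_centralizer_iff.2 fun _ hv => ((InvChar.EvenChar.mem_zone.1 (h.hull_le hv)).1.2 x hx).symm

/-- A subgroup of `C` normalised by all maximal 2-locals over `C` is trivial. -/
theorem eq_bot_of_normal {Y : Subgroup G} (hY : Y ≤ cz T)
    (hn : ∀ N ∈ Cfsg.maxTwoLocalsContaining (cz T), N ≤ normalizer (Y : Set G)) : Y = ⊥ := by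
  haveI : Fact (Nat.Prime 2) := ⟨Nat.prime_two⟩
  by_contra hne
  have hYM : Y ≤ M := hY.trans h.mem.2
  have hO : Cfsg.pCoreOf 2 Y ≠ ⊥ := by
    intro e
    set O := Cfsg.pCoreOf 2 M
    have hOn : M ≤ normalizer (O : Set G) := CharP.le_normalizer_pCoreOf 2 M
    have h1 : Y ⊓ O ≤ ⊥ := e ▸ CharP.le_pCoreOf inf_le_left
      ((le_inf le_normalizer (hYM.trans hOn)).trans inf_normalizer_le_normalizer_inf)
      ((CharP.isPGroup_pCoreOf 2 M).to_le inf_le_right)
    have hYO : Y ≤ O := by
      refine (le_inf hYM ?_).trans h.charP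
      refine commutator_eq_bot_iff_le_centralizer.1 (le_bot_iff.1 (le_trans (le_inf ?_ ?_) h1))
      · exact Coprime.commutator_le_of_le_normalizer ((CharP.pCoreOf_le 2 M).trans (hn M h.mem))
      · exact Coprime.commutator_le_of_le_normalizer (hYM.trans hOn) |> fun e => by
          rwa [commutator_comm]
    exact hne (le_bot_iff.1 ((le_inf le_rfl hYO).trans h1))
  obtain ⟨N, hN, hNM⟩ := h.two
  set W := normalizer (Cfsg.pCoreOf 2 Y : Set G)
  have hW : Cfsg.IsTwoLocal W := ⟨_, CharP.isPGroup_pCoreOf 2 Y, hO, rfl⟩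
  have hle : ∀ N' ∈ Cfsg.maxTwoLocalsContaining (cz T), N' ≤ W := fun N' hN' =>
    (hn N' hN').trans (Coprime.OmegaDetect.normalizer_le_normalizer_char Y (Cfsg.pCore 2 ↥Y))
  exact hNM ((hN.1.2 W hW (hle N hN)).symm.trans (h.mem.1.2 W hW (hle M h.mem)))

/-- Perfect subgroups of `M` act trivially on the span. -/
theorem perfect_le {L : Subgroup G} (hLM : L ≤ M) (hL : ⁅L, L⁆ = L) :
    L ≤ M ⊓ centralizer (hull T M : Set G) := by
  classical
  haveI : Fact (Nat.Prime 2) := ⟨Nat.prime_two⟩
  set V := hull T M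
  set S := (T : Subgroup G) ⊓ centralizer (V : Set G) with hS
  set M₀ := M ⊓ normalizer (S : Set G) with hM₀
  have hMV := le_normalizer_hull (T := T) (M := M)
  have hsyl : CharP.IsSylIn 2 (T : Subgroup G) M :=
    (CharP.isSylIn_top_iff.2 ⟨T, rfl⟩).mono (T_le h.mem) le_top
  have hfr := fun {g : G} (hg : g ∈ M) => CharP.exists_mem_normalizer_mul_mem_centralizer hsyl hMV hg
  have hTM₀ : (T : Subgroup G) ≤ M₀ := le_inf (T_le h.mem)
    ((le_inf le_normalizer (((T_le h.mem).trans hMV).trans
      (CharP.normalizer_le_normalizer_centralizer _))).trans inf_normalizer_le_normalizer_inf)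
  have hOS : Cfsg.pCoreOf 2 M ≤ S := le_inf h.core_le h.core_cent
  -- the odd part of the kernel
  have hodd : ∀ K : Subgroup G, K ≤ M₀ ⊓ centralizer (V : Set G) → ⁅K, K⁆ = K → K = ⊥ := by
    intro K hK hKp
    set U := M₀ ⊓ centralizer (V : Set G)
    have hSU : S ≤ U := le_inf (inf_le_left.trans hTM₀) inf_le_right
    haveI : (S.subgroupOf U).Normal := (normal_subgroupOf_iff_le_normalizer hSU).2
      ((inf_le_left : U ≤ M₀).trans inf_le_right)
    have hsU : CharP.IsSylIn 2 S U :=
      (hsyl.inf_centralizer hMV).mono hSU (inf_le_inf_right _ inf_le_left)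
    have ho : Odd (Nat.card (↥U ⧸ S.subgroupOf U)) := by
      have := hsU.not_dvd
      rw [relIndex, index_eq_card] at this
      exact Nat.odd_iff.2 (by omega)
    haveI : Group.IsSolvable (↥U ⧸ S.subgroupOf U) := S0205.result ho
    haveI : Group.IsSolvable (S.subgroupOf U) :=
      Coprime.isSolvable_of_isPGroup ((T.isPGroup'.to_le inf_le_left).comap_of_injective U.subtype
        U.subtype_injective)
    exact eq_bot_of_solvable (solvable_of_ker_le_range (S.subgroupOf U).subtype
      (QuotientGroup.mk' (S.subgroupOf U)) (by rw [QuotientGroup.ker_mk', range_subtype])) hK hKp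
  have hM₀sol : Group.IsSolvable M₀ := by
    refine solvable_of_perf ?_
    by_contra hne
    obtain ⟨K, hKle, ⟨hK1, hK2, hK3, hK4⟩, hKmin⟩ := Components.Basic.exists_minimal_le
      (fun K : Subgroup G => K ≤ M₀ ∧ K ≠ ⊥ ∧ ⁅K, K⁆ = K ∧ (K.subgroupOf M₀).IsSubnormal)
      ⟨perf_le M₀, hne, perf_perfect M₀, ((normal_subgroupOf_iff_le_normalizer (perf_le M₀)).2
        (le_normalizer_perf le_normalizer)).isSubnormal⟩
    refine hK2 (hodd K (le_inf hK1 ?_) hK3)
    -- every conjugate lies in `calL`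
    have hcl : ∀ a ∈ M₀, K.map (MulAut.conj a).toMonoidHom ∈ Cfsg.calL (T : Subgroup G) := by
      intro a ha
      set K' := K.map (MulAut.conj a).toMonoidHom with hK'
      have hK'M : K' ≤ M₀ := by
        rintro _ ⟨k, hk, rfl⟩
        exact mul_mem (mul_mem ha (hK1 hk)) (Subgroup.inv_mem _ ha)
      have hsub : (K'.subgroupOf M₀).IsSubnormal := by
        rw [show K'.subgroupOf M₀ = (K.subgroupOf M₀).map (MulAut.conj (⟨a, ha⟩ : M₀)).toMonoidHom from ?_]
        · exact hK4.map (MulEquiv.surjective _)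
        ext y
        simp only [mem_subgroupOf, hK', Subgroup.mem_map, MulEquiv.coe_toMonoidHom, MulAut.conj_apply]
        constructor
        · rintro ⟨k, hk, hky⟩
          exact ⟨⟨k, hK1 hk⟩, hk, Subtype.ext hky⟩
        · rintro ⟨k, hk, hky⟩
          exact ⟨k, hk, congrArg Subtype.val hky⟩
      set J := K' ⊔ (T : Subgroup G)
      have hJ : J ≤ M₀ := sup_le hK'M hTM₀
      refine ⟨⟨?_, ?_, ?_, ?_⟩, ⟨T.subtype (le_sup_right : (T : Subgroup G) ≤ J), rfl⟩, fun e => ?_⟩
      · intro e
        rw [subgroupOf_eq_bot, disjoint_iff, inf_eq_left.2 le_sup_left,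
          map_eq_bot_iff_of_injective _ (MulAut.conj a).injective] at e
        exact hK2 e
      · refine map_injective J.subtype_injective ?_
        rw [map_commutator, map_subgroupOf_eq_of_le le_sup_left, hK', ← map_commutator, hK3]
      · rw [show K'.subgroupOf J = (K'.subgroupOf M₀).comap (inclusion hJ) from rfl]
        exact hsub.comap _
      · rintro L hlt ⟨hL1, hL2, hL3⟩
        set L' := L.map J.subtype with hL'
        have hL'K : L' ≤ K' := by
          have := map_mono (f := J.subtype) hlt.le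
          rwa [map_subgroupOf_eq_of_le le_sup_left] at this
        set L'' := L'.map (MulAut.conj a⁻¹).toMonoidHom
        have hback : K'.map (MulAut.conj a⁻¹).toMonoidHom = K := by
          rw [hK', map_map]
          refine (congrArg K.map (MonoidHom.ext fun x => ?_)).trans (map_id K)
          simp [mul_assoc]
        have hle : L'' ≤ K := hback ▸ map_mono hL'K
        refine hlt.ne (map_injective J.subtype_injective ?_)
        rw [map_subgroupOf_eq_of_le le_sup_left]
        refine map_injective (f := (MulAut.conj a⁻¹).toMonoidHom) (MulAut.conj a⁻¹).injective ?_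
        rw [hback]
        refine hKmin L'' hle ⟨hle.trans hK1, ?_, ?_, ?_⟩
        · rwa [ne_eq, map_eq_bot_iff_of_injective _ (MulAut.conj a⁻¹).injective,
            map_eq_bot_iff_of_injective _ J.subtype_injective]
        · rw [← map_commutator, hL', ← map_commutator, hL2]
        · -- subnormal in `K`, hence in `M₀`
          have h1 : (L'.subgroupOf K').IsSubnormal := by
            have e : L'.subgroupOf K' = L.comap (inclusion (le_sup_left : K' ≤ J)) := by
              ext y
              exact mem_map_iff_mem (f := J.subtype) (x := inclusion le_sup_left y) J.subtype_injective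
            rw [e]
            exact hL3.comap _
          have h1' : ((L'.subgroupOf M₀).subgroupOf (K'.subgroupOf M₀)).IsSubnormal :=
            h1.comap (subgroupOfEquivOfLe hK'M).toMonoidHom
          have h2 : (L'.subgroupOf M₀).IsSubnormal := by
            have := Subgroup.IsSubnormal.trans' h1' hsub
            rwa [map_subgroupOf_eq_of_le (show L'.subgroupOf M₀ ≤ K'.subgroupOf M₀ from fun y hy => hL'K hy)] at this
          rw [show L''.subgroupOf M₀ = (L'.subgroupOf M₀).map (MulAut.conj (⟨a⁻¹, Subgroup.inv_mem _ ha⟩ : M₀)).toMonoidHom from ?_]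
          · exact h2.map (MulEquiv.surjective _)
          ext y
          simp only [mem_subgroupOf, L'', Subgroup.mem_map, MulEquiv.coe_toMonoidHom, MulAut.conj_apply]
          constructor
          · rintro ⟨k, hk, hky⟩
            exact ⟨⟨k, (hL'K.trans hK'M) hk⟩, hk, Subtype.ext hky⟩
          · rintro ⟨k, hk, hky⟩
            exact ⟨k, hk, congrArg Subtype.val hky⟩
      · have hne' : Cfsg.pCoreOf 2 J ≠ ⊥ := fun e' => core_ne h.mem.1.1 (le_bot_iff.1 (e' ▸
          CharP.le_pCoreOf ((h.core_le).trans le_sup_right)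
            ((hJ.trans inf_le_left).trans (CharP.le_normalizer_pCoreOf 2 M))
            (CharP.isPGroup_pCoreOf 2 M)))
        exact hne' (by rw [Cfsg.pCoreOf, e, Subgroup.map_bot])
    intro k hk
    refine mem_centralizer_iff.2 fun v hv => ?_
    induction hv using closure_induction with
    | mem v hv =>
      obtain ⟨m, hm, z, hz, rfl⟩ := hv
      obtain ⟨a, ha, c, hc, rfl⟩ := hfr hm
      have hcz : c * z * c⁻¹ = z := by
        rw [← mem_centralizer_iff.1 hc.2 z (zt_le_hull hz), mul_inv_cancel_right]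
      have hk' : a⁻¹ * k * a ∈ cz T :=
        calL_centralizes h.even T h.lf (hcl a⁻¹ (Subgroup.inv_mem _ ha)) ⟨k, hk, by simp⟩
      rw [show a * c * z * (a * c)⁻¹ = a * (c * z * c⁻¹) * a⁻¹ by group, hcz]
      calc a * z * a⁻¹ * k = a * (z * (a⁻¹ * k * a)) * a⁻¹ := by group
        _ = a * (a⁻¹ * k * a * z) * a⁻¹ := by rw [mem_centralizer_iff.1 hk' z hz]
        _ = _ := by group
    | one => simp
    | mul u v _ _ hu hv => rw [mul_assoc, hv, ← mul_assoc, hu, mul_assoc]
    | inv u _ hu => exact (show Commute u k from hu).inv_left.eq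
  -- conclude
  refine le_inf hLM ?_
  set C₁ := (M ⊓ centralizer (V : Set G)).subgroupOf M
  haveI : C₁.Normal := (normal_subgroupOf_iff_le_normalizer inf_le_left).2
    ((le_inf le_normalizer (hMV.trans (CharP.normalizer_le_normalizer_centralizer _))).trans
      inf_normalizer_le_normalizer_inf)
  haveI := hM₀sol
  haveI : Group.IsSolvable (↥M ⧸ C₁) := solvable_of_surjective
    (f := (QuotientGroup.mk' C₁).comp (inclusion (inf_le_left : M₀ ≤ M))) fun q => by
    obtain ⟨g, rfl⟩ := QuotientGroup.mk'_surjective _ q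
    obtain ⟨a, ha, c, hc, e⟩ := hfr g.2
    refine ⟨⟨a, ha⟩, ?_⟩
    refine QuotientGroup.eq.2 ?_
    show (inclusion _ ⟨a, ha⟩ : M)⁻¹ * g ∈ C₁
    rw [mem_subgroupOf]
    show a⁻¹ * (g : G) ∈ M ⊓ centralizer (V : Set G)
    rwa [e, inv_mul_cancel_left]
  intro x hx
  have hbot : (L.subgroupOf M).map (QuotientGroup.mk' C₁) = ⊥ :=
    eq_bot_of_solvable (H := ⊤) (solvable_of_surjective
      (f := (topEquiv (G := ↥M ⧸ C₁)).symm.toMonoidHom) (MulEquiv.surjective _)) le_top (by
      rw [← map_commutator]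
      congr 1
      refine map_injective M.subtype_injective ?_
      rw [map_commutator, map_subgroupOf_eq_of_le hLM, hL])
  have h1 : (⟨x, hLM hx⟩ : M) ∈ C₁ :=
    (QuotientGroup.eq_one_iff _).1 (mem_bot.1 (hbot ▸ mem_map_of_mem _ hx))
  exact h1.2

/-- `C` has no perfect subgroup. -/
theorem perf_cz : perf (cz T) = ⊥ := by
  refine h.eq_bot_of_normal (perf_le _) fun N hN => ?_
  have h' : Hyp T N := by
    by_cases e : N = M
    · exact e ▸ h
    · exact h.flip hN e
  have e : perf (cz T) = perf (N ⊓ centralizer (hull T N : Set G)) := le_antisymm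
    (le_perf (h'.perfect_le ((perf_le _).trans hN.2) (perf_perfect _)) (perf_perfect _))
    (le_perf (((perf_le _).trans inf_le_right).trans cent_le) (perf_perfect _))
  rw [e]
  exact le_normalizer_perf ((le_inf le_normalizer ((le_normalizer_hull (T := T)).trans
    (CharP.normalizer_le_normalizer_centralizer _))).trans inf_normalizer_le_normalizer_inf)

theorem solvable : Group.IsSolvable M := by
  refine solvable_of_perf (le_bot_iff.1 ?_)
  rw [← h.perf_cz]
  exact le_perf (((h.perfect_le (perf_le M) (perf_perfect M)).trans inf_le_right).trans cent_le)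
    (perf_perfect M)

theorem calL_empty : Cfsg.calL (T : Subgroup G) = ∅ := by
  refine Set.eq_empty_iff_forall_notMem.2 fun L hL => ?_
  obtain ⟨h1, h2⟩ := InvChar.EvenChar.perfect_of_calC hL.1
  exact h1 (le_bot_iff.1 (h.perf_cz ▸ le_perf (calL_centralizes h.even T h.lf hL) h2))

end Hyp

end Cfsg.Agent.QTCentZ
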