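import Cfsg.Agent.Lib.QTCentZ.Irred
import Cfsg.Agent.Lib.QTXi.Three
import Cfsg.Agent.S1852

/-!
# The irreducible case

The image of `C` on an irreducible Frattini quotient is a 2-group.
-/

set_option autoImplicit false
set_option linter.unusedSectionVars false
set_option linter.style.haveILetI false

namespace Cfsg.Agent.QTCentZ

open Subgroup
open scoped commutatorElement

universe u

variable {G : Type u} [Group G] [Finite G]

/-- Passing to the part of prime power order. -/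
theorem exists_part {A K : Type*} [Group A] [Finite A] [Group K] (f : A →* K) {d : A} {r : ℕ}
    (hr : r.Prime) (hd : orderOf (f d) = r) :
    ∃ n : ℕ, (∃ k, orderOf (d ^ n) = r ^ k) ∧ orderOf (f (d ^ n)) = r ∧ n.Coprime r := by
  obtain ⟨k, m, hm, he⟩ := Nat.exists_eq_pow_mul_and_not_dvd (orderOf_pos d).ne' r hr.ne_one
  have hcop : m.Coprime r := ((hr.coprime_iff_not_dvd).2 hm).symm
  refine ⟨m, ⟨k, ?_⟩, ?_, hcop⟩
  · rw [orderOf_pow, he, Nat.gcd_eq_right (dvd_mul_left _ _), Nat.mul_div_cancel]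
    exact Nat.pos_of_ne_zero fun h0 => hm (h0 ▸ dvd_zero r)
  · rw [map_pow, Nat.Coprime.orderOf_pow (hd ▸ hcop.symm), hd]

/-- `act` is trivial on an element centralising. -/
theorem act_eq_one {A : Type u} [Group A] (R : Subgroup A) [R.Normal] {a : A}
    (h : ∀ x ∈ R, a * x * a⁻¹ = x) : act R a = 1 := by
  refine MulEquiv.ext fun v => ?_
  obtain ⟨x, rfl⟩ := QuotientGroup.mk'_surjective _ v
  rw [act_apply, MulAut.one_apply]
  exact congrArg _ (Subtype.ext (by rw [MulAut.conjNormal_apply]; exact h x x.2))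

variable {T : Sylow 2 G} {M : Subgroup G} {p : ℕ} {R : Subgroup (Bar M)} [R.Normal]

/-- A member of `C` inducing a given automorphism. -/
theorem bar_cz_mem (h : Hyp T M) {x : G} (hx : x ∈ M)
    (hd : QuotientGroup.mk' (Cfsg.pCore 2 ↥M) ⟨x, hx⟩ ∈ bar M (cz T)) : x ∈ cz T := by
  obtain ⟨c, hc, e⟩ := hd
  have h1 : c⁻¹ * ⟨x, hx⟩ ∈ Cfsg.pCore 2 ↥M := QuotientGroup.eq.1 e
  rw [show x = (c : G) * ((c⁻¹ * ⟨x, hx⟩ : M) : G) by simp]
  exact mul_mem hc (Hyp.T_le_cz (h.core_le ⟨_, h1, rfl⟩))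

variable [IsSimpleGroup G]

set_option maxHeartbeats 1600000

/-- The configuration with an element of order three on the section. -/
theorem no_three (hG : ¬ IsMulCommutative G) (hQ : Cfsg.IsQTKE G) (h : Hyp T M)
    (hrk : QTXi.RankTwo (Bar M)) (s : Sect T M 3 R) {d : Bar M} (hd : d ∈ bar M (cz T))
    (hd3 : orderOf (act R d) = 3) : False := by
  classical
  haveI : Fact (Nat.Prime 2) := ⟨Nat.prime_two⟩
  haveI : Fact (Nat.Prime 3) := ⟨Nat.prime_three⟩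
  obtain ⟨hxs, hNX, hns⟩ := lift_spec hG hQ h hrk s
  have hXf := lift_mem_calXf hG hQ h hrk s
  have hbar := bar_lift s.prime s.odd s.pgroup
  set X := lift R with hX
  set φ := QuotientGroup.mk' (Cfsg.pCore 2 ↥M)
  obtain ⟨p, P, R₀, hPX, hRT, hPR, hmax, hR2, hRc, hS⟩ := QTXi.Setup.exists_pair T hxs.1
  haveI := Fact.mk hS.prime
  have hRX : R₀ ≤ X := hPR ▸ le_sup_right
  have hXR : X ≤ normalizer (R₀ : Set G) := by
    haveI := hRc
    exact (normal_subgroupOf_iff_le_normalizer hRX).1 inferInstance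
  have hcore : Cfsg.pCoreTwoOf X = R₀ :=
    le_antisymm (hmax _ (map_subtype_le _) (CharP.le_normalizer_pCoreOf 2 X)
      ((Cores.pCore_isPGroup 2).map _)) (CharP.le_pCoreOf hRX hXR hR2)
  have hXM : X ≤ M := lift_le
  have hPM : P ≤ M := hPX.trans hXM
  have hφR : ∀ x (hx : x ∈ X), φ ⟨x, hXM hx⟩ ∈ R := fun x hx => hbar.le ⟨⟨x, hXM hx⟩, hx, rfl⟩
  have hφR₀ : ∀ x (hx : x ∈ R₀), φ ⟨x, hXM (hRX hx)⟩ = 1 := fun x hx =>
    (core_lift (hRX hx)).1 (hcore.symm ▸ hx)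
  have hφinj : ∀ x (hx : x ∈ P), φ ⟨x, hPM hx⟩ = 1 → x = 1 := fun x hx e => by
    have h1 : x ∈ R₀ := hcore ▸ (core_lift (hPX hx)).2 e
    obtain ⟨i, hi⟩ := IsPGroup.iff_orderOf.1 hR2 ⟨x, h1⟩
    rw [Subgroup.orderOf_mk] at hi
    exact orderOf_eq_one_iff.1 (Nat.eq_one_of_dvd_coprimes
      (((Nat.coprime_primes Nat.prime_two hS.prime).2 hS.odd.symm).pow_left i) hi.dvd
      (orderOf_dvd_of_pow_eq_one (hS.exp x hx)))
  have hφsurj : ∀ r ∈ R, ∃ x, ∃ hx : x ∈ P, φ ⟨x, hPM hx⟩ = r := by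
    intro r hr
    obtain ⟨x, hx, rfl⟩ := hbar.ge hr
    have hxX : (x : G) ∈ R₀ ⊔ P := by rw [sup_comm, hPR]; exact hx
    obtain ⟨a, ha, y, hy, hay⟩ := (Coprime.mem_sup_of_le_normalizer (hPX.trans hXR)).1 hxX
    refine ⟨y, hy, ?_⟩
    rw [show x = (⟨a, hXM (hRX ha)⟩ : M) * ⟨y, hPM hy⟩ from Subtype.ext hay.symm, map_mul, hφR₀ a ha, one_mul]
  obtain rfl : p = 3 := by
    have hbot : P ≠ ⊥ := fun e => by
      have h1 := hS.card_eq
      rw [e, card_bot] at h1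
      nlinarith [hS.prime.two_le, Nat.card_pos (α := (⁅(⊥ : Subgroup G), (⊥ : Subgroup G)⁆ : Subgroup G))]
    obtain ⟨⟨x, hx⟩, hx1⟩ := P.ne_bot_iff_exists_ne_one.1 hbot
    have hx1' : φ ⟨x, hPM hx⟩ ≠ 1 := fun e => hx1 (Subtype.ext (hφinj x hx e))
    have h3 : orderOf (φ ⟨x, hPM hx⟩) = 3 := orderOf_eq_prime (s.exp _ (hφR x (hPX hx))) hx1'
    have hp : orderOf (φ ⟨x, hPM hx⟩) = p := orderOf_eq_prime (by
      rw [← map_pow, show (⟨x, hPM hx⟩ : M) ^ p = 1 from Subtype.ext (hS.exp x hx), map_one]) hx1'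
    exact hp.symm.trans h3
  have hMR : M ≤ normalizer (R₀ : Set G) := by
    haveI := hRc
    have := Coprime.OmegaDetect.normalizer_le_normalizer_char X (R₀.subgroupOf X)
    rw [map_subgroupOf_eq_of_le hRX, hNX] at this
    exact this
  have hdata : QTXi.Faithful.Data T M X 3 P R₀ := ⟨hS, hPR, hRT, hR2, hXR, hmax, hXM, Hyp.T_le h.mem,
    hNX.ge, hMR, by
      have h1 := hXf.2
      simp only [Cfsg.moduleV, hcore] at h1
      exact h1⟩
  set W := QTXi.Faithful.mdl T X R₀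
  -- the map to the Frattini quotient
  set q := QuotientGroup.mk' (frattini ↥R)
  let toR : ↥P →* ↥R := ((φ.comp (inclusion hPM))).codRestrict R fun x => hφR x (hPX x.2)
  set ψ := q.comp toR with hψ
  have hψsurj : Function.Surjective ψ := by
    intro v
    obtain ⟨⟨r, hr⟩, rfl⟩ := QuotientGroup.mk'_surjective _ v
    obtain ⟨x, hx, e⟩ := hφsurj r hr
    exact ⟨⟨x, hx⟩, congrArg q (Subtype.ext e)⟩
  letI hcg : CommGroup (↥R ⧸ frattini ↥R) :=
    { (inferInstance : Group (↥R ⧸ frattini ↥R)) with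
      mul_comm := fun x y => by
        obtain ⟨x, rfl⟩ := QuotientGroup.mk'_surjective _ x
        obtain ⟨y, rfl⟩ := QuotientGroup.mk'_surjective _ y
        haveI := s.pgroup.isNilpotent
        rw [← commutatorElement_eq_one_iff_mul_comm, ← map_commutatorElement]
        exact (QuotientGroup.eq_one_iff _).mpr
          (Coprime.commutator_le_frattini ↥R (commutator_mem_commutator (mem_top x) (mem_top y))) }
  have hV : Plane.Is 3 (↥R ⧸ frattini ↥R) := ⟨fun v => by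
    obtain ⟨x, rfl⟩ := QuotientGroup.mk'_surjective _ v
    rw [← map_pow, show x ^ 3 = 1 from Subtype.ext (s.exp x x.2), map_one], by
    rw [← index_eq_card, s.index]⟩
  have hker : ∀ x (hx : x ∈ P), ψ ⟨x, hx⟩ = 1 ↔ x ∈ (⁅P, P⁆ : Subgroup G) := by
    have hle : (⁅P, P⁆ : Subgroup G).subgroupOf P ≤ ψ.ker := by
      intro x hx
      have hx' : x ∈ commutator P := by
        rw [← map_subtype_commutator, mem_subgroupOf] at hx
        exact (mem_map_iff_mem P.subtype_injective).1 hx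
      exact Abelianization.commutator_subset_ker ψ hx'
    have hidx : ψ.ker.index = 3 ^ 2 := by
      rw [Subgroup.index_ker, ψ.range_eq_top.2 hψsurj, card_top, hV.card]
    have e := Subgroup.relIndex_mul_index hle
    rw [hidx, show ((⁅P, P⁆ : Subgroup G).subgroupOf P).index = 3 ^ 2 from hS.index] at e
    have heq : (⁅P, P⁆ : Subgroup G).subgroupOf P = ψ.ker :=
      le_antisymm hle (relIndex_eq_one.1 (by omega))
    intro x hx
    rw [← MonoidHom.mem_ker, ← heq, mem_subgroupOf]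
  -- real elements normalising `P`
  have hequiv : ∀ (m : G) (hm : m ∈ M), m ∈ normalizer (P : Set G) → ∀ w (hw : w ∈ P) (hw' : m * w * m⁻¹ ∈ P),
      ψ ⟨m * w * m⁻¹, hw'⟩ = act R (φ ⟨m, hm⟩) (ψ ⟨w, hw⟩) := by
    intro m hm _ w hw hw'
    show q (toR ⟨m * w * m⁻¹, hw'⟩) = act R _ (q (toR ⟨w, hw⟩))
    rw [act_apply]
    refine congrArg q (Subtype.ext ?_)
    rw [MulAut.conjNormal_apply]
    show φ ⟨m * w * m⁻¹, hPM hw'⟩ = φ ⟨m, hm⟩ * φ ⟨w, hPM hw⟩ * (φ ⟨m, hm⟩)⁻¹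
    rw [← map_inv, ← map_mul, ← map_mul]
    rfl
  have hV1 : ∀ v : ↥R ⧸ frattini ↥R, v ^ 3 = 1 := hV.exp
  by_cases hD : (⁅P, P⁆ : Subgroup G) ≤ centralizer (W : Set G)
  · -- four lines against an offender
    obtain ⟨H, hH⟩ : ∃ H, H ∈ Cfsg.calHMin (T : Subgroup G) M := by
      obtain ⟨N, hN, hne⟩ := h.two
      have hmem : N ∈ Cfsg.calHOverNotLE (T : Subgroup G) M := by
        refine ⟨⟨fun e => Hyp.core_ne hN.1.1 (by rw [Cfsg.pCoreOf, e, Subgroup.map_bot]), Hyp.T_le hN⟩,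
          fun hle => hne (hN.1.2 M h.mem.1.1 hle).symm⟩
      obtain ⟨H, -, h1, h2⟩ := Components.Basic.exists_minimal_le
        (fun L => L ∈ Cfsg.calHOverNotLE (T : Subgroup G) M) hmem
      exact ⟨H, h1, fun K hK hKH => h2 K hKH hK⟩
    have huniq : ∀ N : Subgroup G, Cfsg.IsTwoLocal N → X ⊔ (T : Subgroup G) ≤ N → N ≤ M := by
      intro N hN hle
      obtain ⟨N', ⟨h1, h2⟩, hmax'⟩ := Set.exists_max_image
        {L' : Subgroup G | Cfsg.IsTwoLocal L' ∧ N ≤ L'} (fun L' => Nat.card L')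
        (Set.toFinite _) ⟨N, hN, le_rfl⟩
      have hN' : N' ∈ Cfsg.maxTwoLocalsContaining (X ⊔ (T : Subgroup G)) :=
        ⟨⟨h1, fun L hL hle' => (eq_of_le_of_card_ge hle' (hmax' L ⟨hL, h2.trans hle'⟩)).symm⟩, hle.trans h2⟩
      rw [S1822.result hG hQ T X hxs] at hN'
      rw [← hNX]
      exact h2.trans (le_of_eq hN')
    obtain ⟨B, o₀⟩ := QTXi.Faithful.exists_offender hdata hQ.2.2 huniq hH
    have o : QTXi.Offender 3 P _ B W := ⟨o₀, hD⟩
    obtain ⟨⟨g, hgM⟩, -, rfl⟩ := hd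
    obtain ⟨k, hk, hkg⟩ := S1852.exists_big hdata hgM
    set m := k⁻¹ * g with hm
    have hmM : m ∈ M := hkg.1
    obtain ⟨a, ha, ham⟩ := QTXi.Faithful.decompose hS hPR hR2 (hPX.trans hXR) (hdata.mX hmM)
    set m₀ := a⁻¹ * m with hm₀
    have hm₀M : m₀ ∈ M := mul_mem (Subgroup.inv_mem _ (hXM (hRX ha))) hmM
    have hm₀V : m₀ ∈ normalizer (W : Set G) :=
      mul_mem (Subgroup.inv_mem _ (QTXi.Faithful.big_norm hdata (QTXi.Faithful.x_big hdata (hRX ha))))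
        (QTXi.Faithful.big_norm hdata hkg)
    have hk1 : act R (φ ⟨k, hk.1⟩) = 1 := by
      refine act_eq_one R fun r hr => ?_
      obtain ⟨x, hx, rfl⟩ := hφsurj r hr
      have h1 := hk.2.2.2 x (hPX hx)
      have h2 := hφR₀ _ h1
      have e : (⟨k * x * k⁻¹ * x⁻¹, hXM (hRX h1)⟩ : M) = ⟨k, hk.1⟩ * ⟨x, hPM hx⟩ * (⟨k, hk.1⟩)⁻¹ * (⟨x, hPM hx⟩)⁻¹ :=
        Subtype.ext rfl
      rw [e, map_mul, map_mul, map_mul, map_inv, map_inv] at h2
      exact mul_inv_eq_one.1 h2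
    have hact : act R (φ ⟨m₀, hm₀M⟩) = act R (φ ⟨g, hgM⟩) := by
      rw [show (⟨g, hgM⟩ : M) = ⟨k, hk.1⟩ * ⟨a, hXM (hRX ha)⟩ * ⟨m₀, hm₀M⟩ from Subtype.ext (by
        show g = k * a * m₀
        rw [hm₀, hm]; group)]
      rw [map_mul φ, map_mul φ, hφR₀ a ha, mul_one, map_mul, hk1, one_mul]
    set f := act R (φ ⟨g, hgM⟩) with hf
    have hf1 : f ≠ 1 := fun e => by rw [e, orderOf_one] at hd3; omega
    -- the fixed line
    have hU : IsPGroup 3 (zpowers f) := IsPGroup.of_card (n := 1) (by rw [Nat.card_zpowers, hd3, pow_one])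
    obtain ⟨v, hv1, hv⟩ : ∃ v, v ≠ 1 ∧ f v = v := by
      have h1 : (1 : ↥R ⧸ frattini ↥R) ∈ MulAction.fixedPoints (zpowers f) (↥R ⧸ frattini ↥R) := fun g => smul_one g
      obtain ⟨b, hb, hb1⟩ := hU.exists_fixed_point_of_prime_dvd_card_of_fixed_point _
        (hV.card ▸ dvd_pow_self 3 two_ne_zero) h1
      exact ⟨b, fun e => hb1 e.symm, hb ⟨f, mem_zpowers f⟩⟩
    obtain ⟨w, hw⟩ := hV.exists_notMem hv1
    obtain ⟨⟨x, hx⟩, hxv⟩ := hψsurj v
    obtain ⟨⟨y, hy⟩, hyw⟩ := hψsurj w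
    have hmem : ∀ z (hz : z ∈ P), ψ ⟨z, hz⟩ ∈ zpowers v → z ∈ QTXi.Shape.line P x := by
      rintro z hz ⟨i, hi⟩
      have hi' : v ^ i = ψ ⟨z, hz⟩ := hi
      have h1 : (x ^ i)⁻¹ * z ∈ (⁅P, P⁆ : Subgroup G) := by
        refine (hker _ (mul_mem (Subgroup.inv_mem _ (zpow_mem hx i)) hz)).1 ?_
        rw [show (⟨(x ^ i)⁻¹ * z, _⟩ : P) = ((⟨x, hx⟩ : P) ^ i)⁻¹ * ⟨z, hz⟩ from Subtype.ext (by simp),
          map_mul, map_inv, map_zpow, hxv, hi', inv_mul_cancel]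
      rw [show z = x ^ i * ((x ^ i)⁻¹ * z) by group]
      exact mul_mem (mem_sup_left (zpow_mem (mem_zpowers x) i)) (mem_sup_right h1)
    have hline : ∀ z ∈ QTXi.Shape.line P x, ∀ hz : z ∈ P, ψ ⟨z, hz⟩ ∈ zpowers v := by
      intro z hzl hz
      have hle : QTXi.Shape.line P x ≤ ((zpowers v).comap ψ).map P.subtype := by
        refine sup_le (zpowers_le.2 ⟨⟨x, hx⟩, by
          show ψ ⟨x, hx⟩ ∈ zpowers v
          rw [hxv]; exact mem_zpowers v, rfl⟩) fun c hc => ?_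
        refine ⟨⟨c, commutator_le_self P hc⟩, ?_, rfl⟩
        show ψ ⟨c, _⟩ ∈ zpowers v
        rw [(hker c (commutator_le_self P hc)).2 hc]
        exact one_mem _
      obtain ⟨z', hz', e⟩ := hle hzl
      rwa [show (⟨z, hz⟩ : P) = z' from Subtype.ext e.symm]
    have hcomm : ∀ z (hz : z ∈ P) (hz' : m₀ * z * m₀⁻¹ * z⁻¹ ∈ P),
        ψ ⟨m₀ * z * m₀⁻¹ * z⁻¹, hz'⟩ = f (ψ ⟨z, hz⟩) * (ψ ⟨z, hz⟩)⁻¹ := by
      intro z hz hz'
      have h1 : m₀ * z * m₀⁻¹ ∈ P := (mem_normalizer_iff.1 ham z).1 hz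
      rw [show (⟨m₀ * z * m₀⁻¹ * z⁻¹, hz'⟩ : P) = ⟨m₀ * z * m₀⁻¹, h1⟩ * (⟨z, hz⟩)⁻¹ from Subtype.ext rfl,
        map_mul, map_inv, hequiv m₀ hm₀M ham z hz h1, hact]
    have hmz : ∀ z ∈ P, m₀ * z * m₀⁻¹ * z⁻¹ ∈ P := fun z hz =>
      mul_mem ((mem_normalizer_iff.1 ham z).1 hz) (Subgroup.inv_mem _ hz)
    have hfw : f w * w⁻¹ ∈ zpowers v := by
      obtain ⟨i, j, hij⟩ := hV.coords hv1 hw (f w)
      have hit : ∀ n : ℕ, ∃ c : ℤ, (f ^ n) w = v ^ c * w ^ (j ^ n) := by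
        intro n
        induction n with
        | zero => exact ⟨0, by simp⟩
        | succ n ih =>
          obtain ⟨c, hc⟩ := ih
          refine ⟨c + i * j ^ n, ?_⟩
          rw [pow_succ', MulAut.mul_apply, hc, map_mul, map_zpow, map_zpow, hv, hij, mul_zpow, ← zpow_mul,
            ← zpow_mul, ← mul_assoc, ← zpow_add, pow_succ']
      obtain ⟨c, hc⟩ := hit 3
      rw [show f ^ 3 = 1 by rw [← hd3]; exact pow_orderOf_eq_one f, MulAut.one_apply] at hc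
      have hm3 : (3 : ℤ) ∣ j ^ 3 - j := by
        have := ZMod.pow_card (p := 3) (j : ZMod 3)
        have e := (ZMod.intCast_zmod_eq_zero_iff_dvd (j ^ 3 - j) 3).1 (by push_cast; rw [this, sub_self])
        exact_mod_cast e
      obtain ⟨b, hb⟩ := hm3
      have e : w ^ (j ^ 3 - j) = 1 := by
        rw [hb, zpow_mul, show (3 : ℤ) = ((3 : ℕ) : ℤ) from rfl, zpow_natCast, hV1, one_zpow]
      rw [zpow_sub, mul_inv_eq_one] at e
      rw [e] at hc
      refine ⟨i - c, ?_⟩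
      show v ^ (i - c) = f w * w⁻¹
      rw [hij, zpow_sub]
      nth_rw 2 [hc]
      group
    refine o.no_three ham hm₀V hx (fun e => hv1 ?_) hy (fun e => hw ?_) ?_ ?_ fun e => hf1 ?_
    · rw [← hxv]; exact (hker x hx).2 e
    · rw [← hyw]; exact hline y e hy
    · refine (hker _ (hmz x hx)).1 ?_
      rw [hcomm x hx (hmz x hx), hxv, hv, mul_inv_cancel]
    · refine hmem _ (hmz y hy) ?_
      rw [hcomm y hy (hmz y hy), hyw]
      exact hfw
    · have h1 := (hker _ (hmz y hy)).2 e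
      rw [hcomm y hy (hmz y hy), hyw, mul_inv_eq_one] at h1
      refine MulEquiv.ext fun z => ?_
      obtain ⟨i, j, rfl⟩ := hV.coords hv1 hw z
      rw [map_mul, map_zpow, map_zpow, hv, h1, MulAut.one_apply]
  -- `P` has derived group moving the module
  set D := bar M (cz T) with hDdef
  have hPne : (⁅P, P⁆ : Subgroup G) ≠ ⊥ := fun e => hD (e.le.trans bot_le)
  have hPc : Nat.card (⁅P, P⁆ : Subgroup G) = 3 :=
    ((Nat.dvd_prime Nat.prime_three).1 hS.derived_card).resolve_left fun e => hPne (eq_bot_of_card_eq _ e)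
  have hderC : ∀ z ∈ (⁅P, P⁆ : Subgroup G), z ∈ cz T → z = 1 := by
    intro z hz hzC
    by_contra hz1
    have hgen : zpowers z = ⁅P, P⁆ := Subgroup.eq_of_le_of_card_ge (zpowers_le.2 hz) (by
      rw [hPc, Nat.card_zpowers, orderOf_eq_prime (hS.exp z (hS.derived_le hz)) hz1])
    set U := ⁅W, (⁅P, P⁆ : Subgroup G)⁆ with hU
    have hPW : (⁅P, P⁆ : Subgroup G) ≤ normalizer (W : Set G) :=
      ((hS.derived_le.trans hPX).trans (QTXi.Faithful.x_big hdata)).trans (QTXi.Faithful.big_norm hdata)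
    have hUW : U ≤ W := Coprime.commutator_le_of_le_normalizer hPW
    have hWT : W ≤ (T : Subgroup G) := (QTXi.Faithful.mdl_le hdata).trans hRT
    have hTU : (T : Subgroup G) ≤ normalizer (U : Set G) := by
      refine Subgroup.le_normalizer_iff.2 fun t ht u hu => ?_
      obtain ⟨r, hr, hrt⟩ := QTXi.Faithful.decompose hS hPR hR2 (hPX.trans hXR) (hdata.mX (hdata.tM ht))
      set t₀ := r⁻¹ * t
      have ht₀W : t₀ ∈ normalizer (W : Set G) :=
        QTXi.Faithful.big_norm hdata (QTXi.Faithful.t_big hdata (mul_mem (Subgroup.inv_mem _ (hRT hr)) ht))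
      have ht₀P : t₀ ∈ normalizer ((⁅P, P⁆ : Subgroup G) : Set G) :=
        zpowers_le.1 (QTXi.le_normalizer_of_conj fun b hb c hc => hS.derived_normal (zpowers_le.2 hrt hb) hc)
      have h1 := QTXi.Offender.conj_mem_commutator ht₀W ht₀P hu
      rw [show t * u * t⁻¹ = r * (t₀ * u * t₀⁻¹) * r⁻¹ by simp only [t₀]; group,
        ← mem_centralizer_iff.1 (QTXi.Faithful.r_cent hdata hr) _ (hUW h1), mul_inv_cancel_right]
      exact h1
    have hUne : U ≠ ⊥ := fun e => hD (Coprime.commutator_eq_bot_iff_le_centralizer'.1 e)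
    obtain ⟨u, hu, hu1, hu2, huc⟩ := QTXi.Outer.exists_central Nat.prime_two T.isPGroup' (hUW.trans hWT) hTU hUne
    refine hu1 ?_
    have huz : u ∈ zt T := InvChar.EvenChar.mem_zone.2 ⟨⟨hWT (hUW hu), huc⟩, hu2⟩
    haveI : IsMulCommutative W := ⟨⟨fun a b => Subtype.ext (QTXi.Faithful.mdl_comm hdata a a.2 b b.2)⟩⟩
    have hcop : (Nat.card (⁅P, P⁆ : Subgroup G)).Coprime (Nat.card W) := by
      obtain ⟨i, hi⟩ := IsPGroup.iff_card.1 (T.isPGroup'.to_le hWT)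
      rw [hPc, hi]
      exact (by norm_num : Nat.Coprime 3 2).pow_right i
    refine mem_bot.1 ((Coprime.inf_centralizer_inf_commutator hPW hcop).le ⟨⟨hUW hu, ?_⟩, hu⟩)
    rw [← hgen]
    refine mem_centralizer_iff.2 ?_
    rintro _ ⟨i, rfl⟩
    exact ((show Commute u z from mem_centralizer_iff.1 hzC u huz).zpow_right i).eq.symm
  -- `R` meets the image trivially
  have hTbarD : bar M (T : Subgroup G) ≤ D := map_mono fun x hx => Hyp.T_le_cz hx
  have hphi : ∀ r (hr : r ∈ R), q ⟨r, hr⟩ = 1 → ∃ z, ∃ hz : z ∈ (⁅P, P⁆ : Subgroup G),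
      φ ⟨z, hPM (hS.derived_le hz)⟩ = r := by
    intro r hr e
    obtain ⟨z, hz, rfl⟩ := hφsurj r hr
    exact ⟨z, (hker z hz).1 e, rfl⟩
  have hRD : R ⊓ D = ⊥ := by
    refine (Subgroup.eq_bot_iff_forall _).2 fun r hr => ?_
    obtain ⟨hrR, hrD⟩ := hr
    set J := ((R ⊓ D).subgroupOf R).map q with hJ
    by_contra hr1
    have hinv : ∀ σ ∈ bar M (T : Subgroup G), ∀ v ∈ J, act R σ v ∈ J := by
      rintro σ hσ _ ⟨x, hx, rfl⟩
      refine ⟨MulAut.conjNormal σ x, ?_, (act_apply R σ x).symm⟩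
      show ((MulAut.conjNormal σ x : R) : Bar M) ∈ R ⊓ D
      rw [MulAut.conjNormal_apply]
      exact ⟨Normal.conj_mem inferInstance _ x.2 σ,
        mul_mem (mul_mem (hTbarD hσ) hx.2) (Subgroup.inv_mem _ (hTbarD hσ))⟩
    have hJcase : J = ⊥ ∨ J = ⊤ := by
      by_contra hn
      push Not at hn
      obtain ⟨⟨v, hv⟩, hv1⟩ := J.ne_bot_iff_exists_ne_one.1 hn.1
      have hv1' : v ≠ 1 := fun e => hv1 (Subtype.ext e)
      obtain ⟨σ, hσ, hσv⟩ := s.irr v hv1'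
      refine hn.2 (top_le_iff.1 ((hV.span hv1' hσv).ge.trans (sup_le (zpowers_le.2 hv) (zpowers_le.2 (hinv σ hσ v hv)))))
    rcases hJcase with e | e
    · have h1 : q ⟨r, hrR⟩ ∈ J := ⟨⟨r, hrR⟩, ⟨hrR, hrD⟩, rfl⟩
      rw [e, mem_bot] at h1
      obtain ⟨z, hz, rfl⟩ := hphi r hrR h1
      have hz1 := hderC z hz (bar_cz_mem h _ hrD)
      subst hz1
      exact hr1 (map_one φ)
    · -- the whole of `R` would lie in the image
      have htop : (R ⊓ D).subgroupOf R = ⊤ := by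
        refine frattini_nongenerating (eq_top_iff.2 fun x _ => ?_)
        obtain ⟨y, hy, hyx⟩ := e.ge (mem_top (q x))
        rw [show x = y * (y⁻¹ * x) by group]
        exact mul_mem_sup hy (QuotientGroup.eq.1 hyx)
      refine hns fun x hx => bar_cz_mem h (hXM hx) ?_
      exact (htop.ge (mem_top (⟨_, hφR x hx⟩ : R))).2
  -- an element of `D` commuting with minus one
  set ρ := act R with hρ
  obtain ⟨j, hjS, hj1, hjv⟩ := hV.exists_neg (S := (bar M (T : Subgroup G)).map ρ)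
    (((T.isPGroup'.comap_of_injective M.subtype M.subtype_injective).map _).map _) fun v hv => by
      obtain ⟨σ, hσ, hσv⟩ := s.irr v hv
      exact ⟨_, mem_map_of_mem _ hσ, hσv⟩
  obtain ⟨τ, hτT, hτ⟩ := hjS
  have hjc : ∀ f : MulAut (↥R ⧸ frattini ↥R), f * j = j * f := fun f => MulEquiv.ext fun v => by
    rw [MulAut.mul_apply, MulAut.mul_apply, hjv, hjv, map_inv]
  have hj2 : j * j = 1 := MulEquiv.ext fun v => by rw [MulAut.mul_apply, hjv, hjv, inv_inv, MulAut.one_apply]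
  set N := D ⊓ (zpowers j).comap ρ with hN
  have hNn : D ≤ normalizer (N : Set (Bar M)) := Subgroup.le_normalizer_iff.2 fun g hg x hx => by
    refine ⟨mul_mem (mul_mem hg hx.1) (Subgroup.inv_mem _ hg), ?_⟩
    show ρ (g * x * g⁻¹) ∈ zpowers j
    obtain ⟨i, hi⟩ := hx.2
    have hi' : j ^ i = ρ x := hi
    rw [map_mul, map_mul, map_inv, ← hi', ((show Commute (ρ g) j from hjc (ρ g)).zpow_right i).eq,
      mul_inv_cancel_right]
    exact zpow_mem (mem_zpowers j) i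
  have hsylD : CharP.IsSylIn 2 (bar M (T : Subgroup G)) D := by
    let θ : ↥(cz T) →* ↥D := (φ.comp (inclusion h.mem.2)).codRestrict D fun c =>
      ⟨⟨c, h.mem.2 c.2⟩, c.2, rfl⟩
    have hθ : Function.Surjective θ := by
      rintro ⟨_, m, hm, rfl⟩
      exact ⟨⟨m, hm⟩, rfl⟩
    refine ⟨(T.subtype Hyp.T_le_cz).mapSurjective hθ, ?_⟩
    ext q
    constructor
    · rintro ⟨_, ⟨c, hc, rfl⟩, rfl⟩
      exact ⟨⟨c, h.mem.2 c.2⟩, hc, rfl⟩
    · rintro ⟨m, hm, rfl⟩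
      exact ⟨θ ⟨m, Hyp.T_le_cz hm⟩, ⟨⟨m, Hyp.T_le_cz hm⟩, hm, rfl⟩, rfl⟩
  have hS2 := hsylD.inf_normal (inf_le_left : N ≤ D) hNn
  set S₂ := bar M (T : Subgroup G) ⊓ N with hS₂
  have hτS₂ : τ ∈ S₂ := ⟨hτT, hTbarD hτT, by
    show ρ τ ∈ zpowers j
    rw [hτ]; exact mem_zpowers j⟩
  have hconjS : CharP.IsSylIn 2 (S₂.map (MulAut.conj d).toMonoidHom) N := by
    have := hS2.conj d
    rwa [show N.map (MulAut.conj d).toMonoidHom = N from mem_normalizer_iff_map_conj_eq.1 (hNn hd)] at this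
  obtain ⟨n, hn, hne⟩ := hconjS.exists_conj hS2
  set d₁ := n * d with hd₁
  have hd₁S : d₁ ∈ normalizer (S₂ : Set (Bar M)) := by
    refine mem_normalizer_iff_map_conj_eq.2 ?_
    show S₂.map (MulAut.conj d₁).toMonoidHom = S₂
    conv_rhs => rw [← hne]
    rw [map_map]
    refine congrArg S₂.map (MonoidHom.ext fun x => ?_)
    simp [d₁, mul_assoc]
  obtain ⟨i, hi⟩ := hn.2
  have hi' : j ^ i = ρ n := hi
  have hρn : ρ n * ρ n = 1 := by
    rw [← hi', ← (Commute.refl j).mul_zpow, hj2, one_zpow]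
  have hd2 : orderOf (ρ (d₁ * d₁)) = 3 := by
    have hc : Commute (ρ d) (ρ n) := by rw [← hi']; exact (show Commute (ρ d) j from hjc (ρ d)).zpow_right i
    have e : ρ (d₁ * d₁) = ρ d ^ 2 := by
      rw [hd₁, map_mul, map_mul, pow_two,
        show ρ n * ρ d * (ρ n * ρ d) = ρ n * (ρ d * ρ n) * ρ d by group, hc.eq,
        show ρ n * (ρ n * ρ d) * ρ d = ρ n * ρ n * (ρ d * ρ d) by group, hρn, one_mul]
    rw [e, Nat.Coprime.orderOf_pow (by rw [hd3]; norm_num), hd3]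
  obtain ⟨k, ⟨e3, hord⟩, hk3, -⟩ := exists_part ρ Nat.prime_three hd2
  set δ := (d₁ * d₁) ^ k with hδ
  have hδD : δ ∈ D := pow_mem (mul_mem (mul_mem hn.1 hd) (mul_mem hn.1 hd)) k
  have hδS : δ ∈ normalizer (S₂ : Set (Bar M)) := pow_mem (mul_mem hd₁S hd₁S) k
  -- elements of `S₂` trivial on the quotient centralise
  have htriv : ∀ σ ∈ S₂, ρ σ = 1 → σ ∈ centralizer (R : Set (Bar M)) := by
    intro σ hσ e
    obtain ⟨i, hi⟩ := IsPGroup.iff_orderOf.1 hS2.isPGroup ⟨σ, hσ⟩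
    rw [Subgroup.orderOf_mk] at hi
    refine cent_of_act s.pgroup ?_ e
    rw [hi]; exact (by norm_num : Nat.Coprime 2 3).pow_left i
  have hττ : τ * τ ∈ centralizer (R : Set (Bar M)) :=
    htriv _ (mul_mem hτS₂ hτS₂) (by rw [map_mul, hτ, hj2])
  have hδτ : δ * τ * δ⁻¹ * τ⁻¹ ∈ centralizer (R : Set (Bar M)) := by
    refine htriv _ (mul_mem ((mem_normalizer_iff.1 hδS τ).1 hτS₂) (Subgroup.inv_mem _ hτS₂)) ?_
    rw [map_mul, map_mul, map_mul, map_inv, map_inv, hτ, hjc, mul_inv_cancel_right, mul_inv_cancel]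
  -- a fixed vector of `δ`
  have hU : IsPGroup 3 (zpowers (ρ δ)) := IsPGroup.of_card (n := 1) (by rw [Nat.card_zpowers, hk3, pow_one])
  obtain ⟨v, hv1, hv⟩ : ∃ v, v ≠ 1 ∧ ρ δ v = v := by
    have h1 : (1 : ↥R ⧸ frattini ↥R) ∈ MulAction.fixedPoints (zpowers (ρ δ)) (↥R ⧸ frattini ↥R) := fun g => smul_one g
    obtain ⟨b, hb, hb1⟩ := hU.exists_fixed_point_of_prime_dvd_card_of_fixed_point _
      (hV.card ▸ dvd_pow_self 3 two_ne_zero) h1
    exact ⟨b, fun e => hb1 e.symm, hb ⟨ρ δ, mem_zpowers _⟩⟩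
  obtain ⟨⟨y, hy⟩, hyv⟩ := QuotientGroup.mk'_surjective _ v
  -- the derived group of `R`
  set Φ := (frattini ↥R).map R.subtype with hΦ
  have hΦmem : ∀ c, c ∈ Φ → ∃ z, ∃ hz : z ∈ (⁅P, P⁆ : Subgroup G), φ ⟨z, hPM (hS.derived_le hz)⟩ = c := by
    rintro _ ⟨c, hc, rfl⟩
    exact hphi c c.2 ((QuotientGroup.eq_one_iff _).2 hc)
  have hΦR : Φ ≤ R := map_subtype_le _
  have hΦc : ∀ c ∈ Φ, ∀ r ∈ R, c * r = r * c := by
    intro c hc r hr
    obtain ⟨z, hz, rfl⟩ := hΦmem c hc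
    obtain ⟨x, hx, rfl⟩ := hφsurj r hr
    rw [← map_mul, ← map_mul]
    exact congrArg φ (Subtype.ext (hS.derived_comm hz hx).symm)
  have hΦcard : Nat.card Φ = 3 := by
    rw [hΦ, card_map_of_injective R.subtype_injective]
    have h1 := Subgroup.card_mul_index (frattini ↥R)
    rw [s.index] at h1
    rcases s.shape_card hrk with ⟨hc, hcomm⟩ | ⟨hc, -⟩
    · exfalso
      refine hPne ((Subgroup.eq_bot_iff_forall _).2 fun z hz => ?_)
      refine hφinj z (hS.derived_le hz) ?_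
      have hle : (⁅P, P⁆ : Subgroup G) ≤ (φ.ker.map M.subtype) := by
        rw [commutator_le]
        intro a ha b hb
        refine ⟨⁅(⟨a, hPM ha⟩ : M), (⟨b, hPM hb⟩ : M)⁆, ?_, rfl⟩
        rw [SetLike.mem_coe, MonoidHom.mem_ker, map_commutatorElement, commutatorElement_eq_one_iff_mul_comm]
        exact congrArg Subtype.val (hcomm.is_comm.comm (⟨_, hφR a (hPX ha)⟩ : R) ⟨_, hφR b (hPX hb)⟩)
      obtain ⟨m, hm, hmz⟩ := hle hz
      rwa [show (⟨z, hPM (hS.derived_le hz)⟩ : M) = m from Subtype.ext hmz.symm]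
    · rw [hc] at h1; omega
  have hΦn : ∀ σ : Bar M, ∀ c ∈ Φ, σ * c * σ⁻¹ ∈ Φ := fun σ c hc =>
    (inferInstance : Φ.Normal).conj_mem c hc σ
  have hΦcases : ∀ c ∈ Φ, c ≠ 1 → ∀ c' ∈ Φ, c' = 1 ∨ c' = c ∨ c' = c⁻¹ := by
    intro c hc hc1 c' hc'
    have ho : orderOf c = 3 := orderOf_eq_prime (s.exp c (hΦR hc)) hc1
    have hz : zpowers c = Φ := Subgroup.eq_of_le_of_card_ge (zpowers_le.2 hc) (by
      rw [hΦcard, Nat.card_zpowers, ho])
    obtain ⟨i, hi⟩ := (mem_zpowers_iff_mem_range_orderOf (x := c)).1 (hz.ge hc') |> Finset.mem_image.1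
    rw [Finset.mem_range, ho] at hi
    obtain ⟨hi1, hi2⟩ := hi
    interval_cases i
    · exact Or.inl (by rw [← hi2, pow_zero])
    · exact Or.inr (Or.inl (by rw [← hi2, pow_one]))
    · refine Or.inr (Or.inr ?_)
      rw [← hi2]
      exact eq_inv_of_mul_eq_one_left (by rw [← pow_succ]; exact s.exp c (hΦR hc))
  -- minus one is trivial on it
  have hτq : ∀ r (hr : r ∈ R), τ * r * τ⁻¹ * r ∈ Φ := by
    intro r hr
    refine ⟨MulAut.conjNormal τ (⟨r, hr⟩ : R) * ⟨r, hr⟩, ?_, by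
      rw [coe_subtype, Subgroup.coe_mul, MulAut.conjNormal_apply]⟩
    rw [SetLike.mem_coe, ← QuotientGroup.eq_one_iff]
    show q _ = 1
    rw [map_mul, show q (MulAut.conjNormal τ (⟨r, hr⟩ : R)) = j (q ⟨r, hr⟩) by rw [← hτ]; rfl, hjv,
      inv_mul_cancel]
  have hτΦ : ∀ c ∈ Φ, τ * c * τ⁻¹ = c := by
    intro c hc
    by_contra hne
    have hc1 : c ≠ 1 := fun e => hne (by rw [e]; simp)
    have hcinv : τ * c * τ⁻¹ = c⁻¹ := by
      rcases hΦcases c hc hc1 _ (hΦn τ c hc) with e | e | e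
      · exact absurd (by simpa using e) hc1
      · exact absurd e hne
      · exact e
    -- commutators are fixed
    rcases s.shape_card hrk with ⟨hcc, -⟩ | ⟨-, hnc⟩
    · have h1 := Subgroup.card_mul_index (frattini ↥R)
      rw [s.index, hcc] at h1
      rw [hΦ, card_map_of_injective R.subtype_injective] at hΦcard
      omega
    refine hnc ⟨⟨fun a b => ?_⟩⟩
    by_contra hab
    have hcm : ⁅(a : Bar M), (b : Bar M)⁆ ∈ Φ := by
      haveI := s.pgroup.isNilpotent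
      exact ⟨⁅a, b⁆, Coprime.commutator_le_frattini ↥R (commutator_mem_commutator (mem_top a) (mem_top b)), rfl⟩
    obtain ⟨ca, hca, ea⟩ : ∃ ca ∈ Φ, τ * a * τ⁻¹ = ca * (a : Bar M)⁻¹ :=
      ⟨_, hτq a a.2, (mul_inv_cancel_right _ _).symm⟩
    obtain ⟨cb, hcb, eb⟩ : ∃ cb ∈ Φ, τ * b * τ⁻¹ = cb * (b : Bar M)⁻¹ :=
      ⟨_, hτq b b.2, (mul_inv_cancel_right _ _).symm⟩
    have hfix : τ * ⁅(a : Bar M), (b : Bar M)⁆ * τ⁻¹ = ⁅(a : Bar M), (b : Bar M)⁆ := by
      have e1 : τ * ⁅(a : Bar M), (b : Bar M)⁆ * τ⁻¹ = ⁅τ * a * τ⁻¹, τ * b * τ⁻¹⁆ := by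
        simp only [commutatorElement_def]; group
      rw [e1, ea, eb]
      have hA := hΦc ca hca
      have hB := hΦc cb hcb
      have ha' := Subgroup.inv_mem _ a.2
      have hb' := Subgroup.inv_mem _ b.2
      calc ⁅ca * (a : Bar M)⁻¹, cb * (b : Bar M)⁻¹⁆
          = ca * ((a : Bar M)⁻¹ * cb) * (b : Bar M)⁻¹ * a * ca⁻¹ * b * cb⁻¹ := by
            simp only [commutatorElement_def]; group
        _ = ca * cb * ((a : Bar M)⁻¹ * (b : Bar M)⁻¹ * a) * ca⁻¹ * b * cb⁻¹ := by rw [← hB _ ha']; group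
        _ = cb * (ca * (((a : Bar M)⁻¹ * (b : Bar M)⁻¹ * a)) * ca⁻¹) * b * cb⁻¹ := by
            rw [hA cb (hΦR hcb)]; group
        _ = cb * ((a : Bar M)⁻¹ * (b : Bar M)⁻¹ * a * b) * cb⁻¹ := by
            rw [hA _ (mul_mem (mul_mem ha' hb') a.2), mul_inv_cancel_right]; group
        _ = (a : Bar M)⁻¹ * (b : Bar M)⁻¹ * a * b := by
            rw [hB _ (mul_mem (mul_mem (mul_mem ha' hb') a.2) b.2), mul_inv_cancel_right]
        _ = ((b : Bar M) * a)⁻¹ * (⁅(a : Bar M), (b : Bar M)⁆ * ((b : Bar M) * a)) := by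
            simp only [commutatorElement_def]; group
        _ = _ := by rw [hΦc _ hcm _ (mul_mem b.2 a.2), inv_mul_cancel_left]
    have hne1 : ⁅(a : Bar M), (b : Bar M)⁆ ≠ 1 := fun e =>
      hab (Subtype.ext (commutatorElement_eq_one_iff_mul_comm.1 e))
    rcases hΦcases c hc hc1 _ hcm with e | e | e
    · exact hne1 e
    · exact hne (e ▸ hfix)
    · rw [e, show τ * c⁻¹ * τ⁻¹ = (τ * c * τ⁻¹)⁻¹ by group] at hfix
      exact hne (inv_injective hfix)
  have hδΦ : ∀ c ∈ Φ, δ * c * δ⁻¹ = c := by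
    intro c hc
    by_cases hc1 : c = 1
    · rw [hc1]; simp
    rcases hΦcases c hc hc1 _ (hΦn δ c hc) with e | e | e
    · exact absurd (by simpa using e) hc1
    · exact e
    exfalso
    have hit : ∀ n : ℕ, δ ^ (2 * n + 1) * c * (δ ^ (2 * n + 1))⁻¹ = c⁻¹ := by
      intro n
      induction n with
      | zero => simpa using e
      | succ n ih =>
        rw [show δ ^ (2 * (n + 1) + 1) * c * (δ ^ (2 * (n + 1) + 1))⁻¹ =
          δ * (δ * (δ ^ (2 * n + 1) * c * (δ ^ (2 * n + 1))⁻¹) * δ⁻¹) * δ⁻¹ by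
            rw [show 2 * (n + 1) + 1 = 2 * n + 1 + 1 + 1 by ring, pow_succ', pow_succ']; group,
          ih, show δ * c⁻¹ * δ⁻¹ = (δ * c * δ⁻¹)⁻¹ by group, e, inv_inv, e]
    obtain ⟨n, hn'⟩ : Odd (3 ^ e3) := (by decide : Odd 3).pow
    have h1 := hit n
    rw [← hn', ← hord, pow_orderOf_eq_one] at h1
    have h2 : c * c = 1 := mul_eq_one_iff_eq_inv.2 (by simpa using h1)
    have ho : orderOf c = 3 := orderOf_eq_prime (s.exp c (hΦR hc)) hc1
    have h3 := orderOf_dvd_of_pow_eq_one (show c ^ 2 = 1 by rw [pow_two, h2])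
    rw [ho] at h3
    omega
  -- the inverted element
  set x := τ * y⁻¹ * τ⁻¹ * y with hx
  have hxR : x ∈ R := mul_mem (Normal.conj_mem inferInstance _ (Subgroup.inv_mem _ hy) τ) hy
  have hτx : τ * x * τ⁻¹ = x⁻¹ := by
    have e : τ * (τ * y⁻¹ * τ⁻¹) * τ⁻¹ = y⁻¹ := by
      rw [show τ * (τ * y⁻¹ * τ⁻¹) * τ⁻¹ = τ * τ * y⁻¹ * (τ * τ)⁻¹ by group,
        ← mem_centralizer_iff.1 hττ y⁻¹ (Subgroup.inv_mem _ hy), mul_inv_cancel_right]
    rw [hx, show τ * (τ * y⁻¹ * τ⁻¹ * y) * τ⁻¹ = τ * (τ * y⁻¹ * τ⁻¹) * τ⁻¹ * (τ * y * τ⁻¹) by group, e]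
    group
  have hxq : q ⟨x, hxR⟩ = v * v := by
    have : (⟨x, hxR⟩ : R) = MulAut.conjNormal τ (⟨y, hy⟩ : R)⁻¹ * ⟨y, hy⟩ := Subtype.ext (by
      rw [Subgroup.coe_mul, MulAut.conjNormal_apply]; rfl)
    rw [this, map_mul, show q (MulAut.conjNormal τ (⟨y, hy⟩ : R)⁻¹) = j (q (⟨y, hy⟩ : R)⁻¹) by rw [← hτ]; rfl,
      map_inv, hyv, hjv, inv_inv]
  have hvv : v * v ≠ 1 := fun e => hv1 (by
    calc v = v ^ 3 * (v * v)⁻¹ := by group
      _ = 1 := by rw [hV1, e, inv_one, mul_one])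
  have hxΦ : x ∉ Φ := by
    rintro ⟨c, hc, hcx⟩
    refine hvv ?_
    rw [← hxq, show (⟨x, hxR⟩ : R) = c from Subtype.ext hcx.symm]
    exact (QuotientGroup.eq_one_iff _).2 hc
  set c := x⁻¹ * (δ * x * δ⁻¹) with hc
  have hδx : δ * x * δ⁻¹ ∈ R := Normal.conj_mem inferInstance _ hxR δ
  have hcΦ : c ∈ Φ := by
    refine ⟨(⟨x, hxR⟩ : R)⁻¹ * ⟨_, hδx⟩, QuotientGroup.eq.1 ?_, rfl⟩
    show q ⟨x, hxR⟩ = q ⟨_, hδx⟩
    rw [show (⟨_, hδx⟩ : R) = MulAut.conjNormal δ (⟨x, hxR⟩ : R) from Subtype.ext (by rw [MulAut.conjNormal_apply]),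
      show q (MulAut.conjNormal δ (⟨x, hxR⟩ : R)) = ρ δ (q ⟨x, hxR⟩) from rfl, hxq, map_mul, hv]
  have hτδx : τ * (δ * x * δ⁻¹) * τ⁻¹ = (δ * x * δ⁻¹)⁻¹ := by
    set e := δ * τ * δ⁻¹ * τ⁻¹ with he
    have e1 : τ * (δ * x * δ⁻¹) * τ⁻¹ = e⁻¹ * (δ * (τ * x * τ⁻¹) * δ⁻¹) * e := by rw [he]; group
    rw [e1, hτx]
    have hm : δ * x⁻¹ * δ⁻¹ ∈ R := Normal.conj_mem inferInstance _ (Subgroup.inv_mem _ hxR) δ
    rw [← mem_centralizer_iff.1 (Subgroup.inv_mem _ hδτ) _ hm, inv_mul_cancel_right]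
    group
  have hc1 : c = 1 := by
    have h1 : τ * c * τ⁻¹ = x * (δ * x * δ⁻¹)⁻¹ := by
      rw [hc, show τ * (x⁻¹ * (δ * x * δ⁻¹)) * τ⁻¹ = (τ * x * τ⁻¹)⁻¹ * (τ * (δ * x * δ⁻¹) * τ⁻¹) by group,
        hτx, hτδx, inv_inv]
    have h2 : x * (δ * x * δ⁻¹)⁻¹ = c⁻¹ := by
      calc x * (δ * x * δ⁻¹)⁻¹ = x * c⁻¹ * x⁻¹ := by rw [hc]; group
        _ = c⁻¹ := by rw [← hΦc c⁻¹ (Subgroup.inv_mem _ hcΦ) x hxR, mul_inv_cancel_right]
    rw [h2, hτΦ c hcΦ] at h1
    calc c = c ^ 3 * (c * c)⁻¹ := by group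
      _ = 1 := by
        rw [s.exp c (hΦR hcΦ)]
        nth_rw 1 [h1]
        rw [inv_mul_cancel, inv_one, mul_one]
  have hδx' : δ * x = x * δ := by
    rw [hc, inv_mul_eq_one] at hc1
    exact mul_inv_eq_iff_eq_mul.1 hc1.symm
  -- an elementary subgroup of order nine
  set E := zpowers x ⊔ Φ with hE
  have hEle : E ≤ R := sup_le (zpowers_le.2 hxR) hΦR
  have hEc : E ≤ centralizer ({x} : Set (Bar M)) := sup_le
    (zpowers_le.2 (mem_centralizer_singleton_iff.2 rfl))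
    fun w hw => mem_centralizer_singleton_iff.2 (hΦc w hw x hxR)
  have hEcomm : ∀ a ∈ E, ∀ b ∈ E, a * b = b * a := by
    intro a ha b hb
    have h1 : E ≤ centralizer ({a} : Set (Bar M)) := sup_le
      (zpowers_le.2 (mem_centralizer_singleton_iff.2 (mem_centralizer_singleton_iff.1 (hEc ha)).symm))
      fun w hw => mem_centralizer_singleton_iff.2 (hΦc w hw a (hEle ha))
    exact (mem_centralizer_singleton_iff.1 (h1 hb)).symm
  have hEcard : 3 ^ 2 ≤ Nat.card E := by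
    have hlt : Φ < E := lt_of_le_of_ne le_sup_right fun e => hxΦ (e ▸ mem_sup_left (mem_zpowers x))
    obtain ⟨b, hb⟩ := IsPGroup.iff_card.1 (s.pgroup.to_le hEle)
    have h1 : Nat.card Φ < Nat.card E := lt_of_not_ge fun hge => hlt.ne (Subgroup.eq_of_le_of_card_ge hlt.le hge)
    rw [hΦcard, hb] at h1
    rw [hb]
    refine Nat.pow_le_pow_right (by norm_num) ?_
    by_contra hb2
    have := Nat.pow_le_pow_right (by norm_num : 0 < 3) (show b ≤ 1 by omega)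
    omega
  have hδE : E ≤ centralizer ({δ} : Set (Bar M)) := sup_le
    (zpowers_le.2 (mem_centralizer_singleton_iff.2 hδx'.symm))
    fun w hw => mem_centralizer_singleton_iff.2 (mul_inv_eq_iff_eq_mul.1 (hδΦ w hw)).symm
  -- an element of order three
  have he3 : e3 ≠ 0 := fun e => by
    rw [e, pow_zero, orderOf_eq_one_iff] at hord
    rw [hord, map_one, orderOf_one] at hk3
    omega
  obtain ⟨e', rfl⟩ := Nat.exists_eq_succ_of_ne_zero he3
  set ω := δ ^ 3 ^ e' with hω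
  have hω3 : ω ^ 3 = 1 := by rw [hω, ← pow_mul, ← pow_succ, ← hord, pow_orderOf_eq_one]
  have hω1 : ω ≠ 1 := fun e => by
    have h1 := orderOf_dvd_of_pow_eq_one (hω ▸ e)
    rw [hord] at h1
    have h2 := Nat.pow_dvd_pow_iff_le_right (by norm_num : 1 < 3) |>.1 h1
    omega
  have hωE : ω ∈ E := QTXi.mem_of_commute hrk Nat.prime_three (by norm_num) hEcomm
    (fun a ha => s.exp a (hEle ha)) hEcard hω3 fun a ha =>
      ((show Commute a δ from mem_centralizer_singleton_iff.1 (hδE ha)).pow_right _).eq.symm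
  exact hω1 (mem_bot.1 (hRD ▸ (show ω ∈ R ⊓ D from ⟨hEle hωE, pow_mem hδD _⟩)))

/-- The image of `C` on an irreducible section is a 2-group. -/
theorem irred (hG : ¬ IsMulCommutative G) (hQ : Cfsg.IsQTKE G) (h : Hyp T M) : IrredTwo T M := by
  intro p hp hp2 R hRn hRp hRexp hidx hirr
  classical
  haveI := Fact.mk hp
  haveI : Fact (Nat.Prime 2) := ⟨Nat.prime_two⟩
  have hrk : QTXi.RankTwo (Bar M) := QTXi.rankTwo_quotient (fun r hr hr2 => hQ.1 r hr hr2 M h.mem.1.1) _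
    (Cores.pCore_isPGroup 2)
  have s : Sect T M p R := ⟨hp, hp2, hRp, hRexp, hidx, hirr⟩
  letI hcg : CommGroup (↥R ⧸ frattini ↥R) :=
    { (inferInstance : Group (↥R ⧸ frattini ↥R)) with
      mul_comm := fun x y => by
        obtain ⟨x, rfl⟩ := QuotientGroup.mk'_surjective _ x
        obtain ⟨y, rfl⟩ := QuotientGroup.mk'_surjective _ y
        haveI := hRp.isNilpotent
        rw [← commutatorElement_eq_one_iff_mul_comm, ← map_commutatorElement]
        exact (QuotientGroup.eq_one_iff _).mpr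
          (Coprime.commutator_le_frattini ↥R (commutator_mem_commutator (mem_top x) (mem_top y))) }
  have hV : Plane.Is p (↥R ⧸ frattini ↥R) := ⟨fun v => by
    obtain ⟨x, rfl⟩ := QuotientGroup.mk'_surjective _ v
    rw [← map_pow, show x ^ p = 1 from Subtype.ext (hRexp x x.2), map_one], by rw [← index_eq_card, hidx]⟩
  set H := (bar M (cz T)).map (act R) with hH
  obtain ⟨hxs, hNX, hns⟩ := lift_spec hG hQ h hrk s
  have hbar := bar_lift hp hp2 hRp
  set φ := QuotientGroup.mk' (Cfsg.pCore 2 ↥M)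
  have hT2 : ∃ M₁ M₂ : Subgroup G, M₁ ∈ Cfsg.maxTwoLocalsContaining (T : Subgroup G) ∧
      M₂ ∈ Cfsg.maxTwoLocalsContaining (T : Subgroup G) ∧ M₁ ≠ M₂ := by
    obtain ⟨N, hN, hne⟩ := h.two
    exact ⟨N, M, ⟨hN.1, Hyp.T_le hN⟩, ⟨h.mem.1, Hyp.T_le h.mem⟩, hne⟩
  have hR1 : ∃ r ∈ R, orderOf r = p := by
    have hne : R ≠ ⊥ := fun e => by
      rcases s.shape_card hrk with ⟨hc, -⟩ | ⟨hc, -⟩ <;>
      · rw [e, card_bot] at hc
        exact absurd hc.symm (Nat.one_lt_pow (by norm_num) hp.one_lt).ne'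
    obtain ⟨⟨r, hr⟩, hr1⟩ := R.ne_bot_iff_exists_ne_one.1 hne
    exact ⟨r, hr, orderOf_eq_prime (hRexp r hr) fun e => hr1 (Subtype.ext e)⟩
  obtain ⟨r₀, hr₀, hr₀o⟩ := hR1
  -- odd primes other than `p`
  have hother : (p = 3 ∨ p = 5) ∧ ∀ r : ℕ, r.Prime → r ≠ 2 → r ≠ p → ¬ r ∣ Nat.card H := by
    obtain ⟨x, hx, hxr⟩ := hbar.ge hr₀
    rcases S1852.result hG hQ T (lift R) hT2 hxs (lift_mem_calXf hG hQ h hrk s) with h23 | ⟨h5, hauto⟩
    · have hpX : p ∣ Nat.card (lift R) := by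
        have h1 := orderOf_map_dvd (QuotientGroup.mk' (Cfsg.pCore 2 ↥M)) x
        rw [hxr, hr₀o] at h1
        exact h1.trans ((dvd_of_eq (Subgroup.orderOf_coe x).symm).trans (Subgroup.orderOf_dvd_natCard _ hx))
      obtain rfl : p = 3 := (h23 p hp hpX).resolve_left hp2
      exact ⟨Or.inl rfl, fun r hr hr2 hr3 => hV.primes_three rfl hr hr2 hr3⟩
    · have hp5 : p = 5 := by
        obtain ⟨k, hk⟩ := h5 (QuotientGroup.mk' _ (⟨x, hx⟩ : lift R))
        rw [← map_pow] at hk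
        have hk' := (QuotientGroup.eq_one_iff _).1 hk
        have h1 : r₀ ^ 5 ^ k = 1 := by
          rw [← hxr, ← map_pow]
          have := (core_lift (R := R) (pow_mem hx (5 ^ k))).1 ⟨_, hk', by simp⟩
          exact this
        have h2 := orderOf_dvd_of_pow_eq_one h1
        rw [hr₀o] at h2
        exact (Nat.prime_dvd_prime_iff_eq hp Nat.prime_five).1 (hp.dvd_of_dvd_pow h2)
      subst hp5
      refine ⟨Or.inr rfl, fun r hr hr2 hr5 hdvd => ?_⟩
      haveI := Fact.mk hr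
      obtain ⟨⟨_, a, ha, rfl⟩, hao⟩ := exists_prime_orderOf_dvd_card' r hdvd
      replace hao : orderOf (act R a) = r := (Subgroup.orderOf_coe _).trans hao
      obtain ⟨n, ⟨k, hk⟩, hkn, -⟩ := exists_part (act R) hr hao
      obtain ⟨c, hcC, rfl⟩ := ha
      have hne : act R (φ c ^ n) ≠ 1 := fun e => by
        rw [e, orderOf_one] at hkn; exact hr.ne_one hkn.symm
      refine hne (act_eq_one R fun y hy => ?_)
      obtain ⟨w, hw, rfl⟩ := hbar.ge hy
      set g := ((c ^ n : M) : G) with hg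
      have hgM : g ∈ M := (c ^ n).2
      have hgN : g ∈ normalizer (lift R : Set G) := le_normalizer_lift hgM
      have hwconj : ∀ (z : M), z * w * z⁻¹ * w⁻¹ ∈ (lift R).subgroupOf M := fun z =>
        mul_mem ((mem_normalizer_iff.1 (le_normalizer_lift z.2) _).1 hw) (Subgroup.inv_mem _ hw)
      have hpow : ∀ z ∈ lift R, g ^ r * z * (g ^ r)⁻¹ * z⁻¹ ∈ Cfsg.pCoreTwoOf (lift R) := by
        intro z hz
        have hz' : g ^ r * z * (g ^ r)⁻¹ * z⁻¹ ∈ lift R :=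
          mul_mem ((mem_normalizer_iff.1 (pow_mem hgN r) z).1 hz) (Subgroup.inv_mem _ hz)
        refine (core_lift hz').2 ?_
        have hcent : (φ c ^ n) ^ r ∈ centralizer (R : Set (Bar M)) := by
          refine cent_of_act hRp ?_ (by rw [map_pow, ← hkn, pow_orderOf_eq_one])
          rw [orderOf_pow, hk]
          exact (((Nat.coprime_primes hr Nat.prime_five).2 hr5).pow_left k).coprime_dvd_left
            (Nat.div_dvd_of_dvd (Nat.gcd_dvd_left _ _))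
        have hzR : φ ⟨z, lift_le hz⟩ ∈ R := hbar.le ⟨⟨z, lift_le hz⟩, hz, rfl⟩
        rw [show (⟨g ^ r * z * (g ^ r)⁻¹ * z⁻¹, lift_le hz'⟩ : M) =
          (c ^ n) ^ r * ⟨z, lift_le hz⟩ * ((c ^ n) ^ r)⁻¹ * (⟨z, lift_le hz⟩)⁻¹ from Subtype.ext (by simp [g]),
          map_mul, map_mul, map_mul, map_inv, map_inv, map_pow, map_pow,
          ← mem_centralizer_iff.1 hcent _ hzR, mul_inv_cancel_right, mul_inv_cancel]
      have hfin := hauto r hr hr2 hr5 g hgN hpow (w : G) hw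
      have h1 := (core_lift (R := R) (hwconj (c ^ n))).1 hfin
      have h2 : φ ((c ^ n) * w * (c ^ n)⁻¹ * w⁻¹) = 1 := h1
      rw [map_mul, map_mul, map_mul, map_inv, map_inv, map_pow, mul_inv_eq_one] at h2
      exact h2
  -- the prime `p`
  have hnop : ¬ p ∣ Nat.card H := by
    intro hdvd
    rcases hother.1 with e | e
    · subst e
      obtain ⟨⟨_, a, ha, rfl⟩, hao⟩ := exists_prime_orderOf_dvd_card' 3 hdvd
      replace hao : orderOf (act R a) = 3 := (Subgroup.orderOf_coe _).trans hao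
      exact no_three hG hQ h hrk s ha hao
    · subst e
      obtain ⟨⟨u, hu⟩, huo⟩ := exists_prime_orderOf_dvd_card' 5 hdvd
      rw [Subgroup.orderOf_mk] at huo
      have h6 := hV.succ_dvd hu (huo ▸ pow_orderOf_eq_one u)
        (fun e => by rw [e, orderOf_one] at huo; omega) fun v hv => by
          obtain ⟨σ, hσ, hσv⟩ := hirr v hv
          exact ⟨_, mem_map_of_mem _ ((map_mono fun x hx => Hyp.T_le_cz hx : bar M (T : Subgroup G) ≤ bar M (cz T)) hσ),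
            hσv⟩
      exact hother.2 3 Nat.prime_three (by norm_num) (by norm_num) (dvd_trans (by norm_num) h6)
  refine IsPGroup.of_card (n := (Nat.card H).primeFactorsList.length)
    (Nat.eq_prime_pow_of_unique_prime_dvd Nat.card_pos.ne' fun {r} hr hrd => ?_)
  by_contra hr2
  by_cases hrp : r = p
  · exact hnop (hrp ▸ hrd)
  · exact hother.2 r hr hr2 hrp hrd

end Cfsg.Agent.QTCentZ
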