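import Cfsg.Agent.Lib.QTCentZ.Reduce
import Cfsg.Agent.S1822

/-!
# The uniqueness group of an irreducible section

A normal subgroup `R` of `M / O₂(M)` of exponent `p` with two-dimensional Frattini quotient, irreducible
under `T`, is the image of a member `X` of `Ξ*` with `N(X) = M`, acting faithfully on `Ω₁(Z(O₂(X)))`.
-/

set_option autoImplicit false
set_option linter.unusedSectionVars false
set_option linter.style.haveILetI false

namespace Cfsg.Agent.QTCentZ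

open Subgroup
open scoped commutatorElement

universe u

variable {G : Type u} [Group G] [Finite G]

/-- The data of an irreducible section. -/
structure Sect (T : Sylow 2 G) (M : Subgroup G) (p : ℕ) (R : Subgroup (Bar M)) [R.Normal] : Prop where
  prime : p.Prime
  odd : p ≠ 2
  pgroup : IsPGroup p R
  exp : ∀ x ∈ R, x ^ p = 1
  index : (frattini ↥R).index = p ^ 2
  irr : ∀ v : ↥R ⧸ frattini ↥R, v ≠ 1 → ∃ s ∈ bar M (T : Subgroup G), act R s v ∉ zpowers v

theorem mem_bar {M H : Subgroup G} {q : Bar M} :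
    q ∈ bar M H ↔ ∃ x, ∃ hx : x ∈ M, x ∈ H ∧ QuotientGroup.mk' (Cfsg.pCore 2 ↥M) ⟨x, hx⟩ = q := by
  constructor
  · rintro ⟨m, hm, rfl⟩; exact ⟨m, m.2, hm, rfl⟩
  · rintro ⟨x, hx, hxH, rfl⟩; exact ⟨⟨x, hx⟩, hxH, rfl⟩

namespace Sect

variable {T : Sylow 2 G} {M : Subgroup G} {p : ℕ} {R : Subgroup (Bar M)} [R.Normal] (s : Sect T M p R)

include s

theorem rankLE (hrk : QTXi.RankTwo (Bar M)) : Cfsg.PRankLE p 2 R := fun E hEc hE => by
  rw [← card_map_of_injective (K := E) R.subtype_injective]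
  refine hrk p s.prime s.odd _ (map_isMulCommutative E _) ?_
  rintro _ ⟨y, hy, rfl⟩
  rw [← map_pow, hE y hy, map_one]

theorem shape_card (hrk : QTXi.RankTwo (Bar M)) :
    (Nat.card R = p ^ 2 ∧ IsMulCommutative R) ∨ (Nat.card R = p ^ 3 ∧ ¬ IsMulCommutative R) := by
  haveI := Fact.mk s.prime
  haveI := s.pgroup.isNilpotent
  have hexp : ∀ x : R, x ^ p = 1 := fun x => Subtype.ext (s.exp x x.2)
  obtain ⟨k, hk⟩ := IsPGroup.iff_card.1 (s.pgroup.to_subgroup (frattini ↥R))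
  have hc : Nat.card R = p ^ (k + 2) := by
    rw [pow_add, ← hk, ← s.index, Subgroup.card_mul_index]
  have h3 := OddLocal.AutRankTwo.card_le_cube hexp (s.rankLE hrk)
  rw [hc] at h3
  have hk1 := (Nat.pow_le_pow_iff_right s.prime.one_lt).1 h3
  rcases Nat.eq_zero_or_pos k with rfl | hk0
  · refine Or.inl ⟨hc, ⟨⟨fun a b => ?_⟩⟩⟩
    have h1 : commutator R ≤ ⊥ := (Coprime.commutator_le_frattini R).trans
      (le_of_eq (eq_bot_of_card_eq _ (by rw [hk, pow_zero])))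
    exact commutatorElement_eq_one_iff_mul_comm.1
      (mem_bot.1 (h1 (commutator_mem_commutator (mem_top a) (mem_top b))))
  · obtain rfl : k = 1 := by omega
    refine Or.inr ⟨hc, fun hcomm => ?_⟩
    have h4 := s.rankLE hrk ⊤ ⟨⟨fun a b => Subtype.ext (hcomm.is_comm.comm _ _)⟩⟩ fun a _ => hexp a
    rw [card_top, hc] at h4
    exact absurd ((Nat.pow_le_pow_iff_right s.prime.one_lt).1 h4) (by norm_num)

end Sect

/-- The preimage generated by its elements of odd order. -/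
def lift {M : Subgroup G} (R : Subgroup (Bar M)) : Subgroup G :=
  Cfsg.oddGenerated ((R.comap (QuotientGroup.mk' (Cfsg.pCore 2 ↥M))).map M.subtype)

section lift

variable {T : Sylow 2 G} {M : Subgroup G} {p : ℕ} {R : Subgroup (Bar M)} [R.Normal]

theorem lift_le : lift R ≤ M := (closure_le _).2 fun _ hx => map_subtype_le _ hx.1

theorem le_normalizer_lift : M ≤ normalizer (lift R : Set G) := by
  refine Subgroup.le_normalizer_iff.2 fun g hg x hx => ?_
  have hle : lift R ≤ (lift R).comap (MulAut.conj g).toMonoidHom := by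
    refine (closure_le _).2 fun y hy => subset_closure ⟨?_, ?_⟩
    · obtain ⟨⟨m, hm, rfl⟩, -⟩ := hy
      exact ⟨⟨g, hg⟩ * m * (⟨g, hg⟩)⁻¹,
        ((inferInstance : (R.comap (QuotientGroup.mk' (Cfsg.pCore 2 ↥M))).Normal).conj_mem m hm _), by simp⟩
    · rw [orderOf_injective (MulAut.conj g).toMonoidHom (MulAut.conj g).injective]; exact hy.2
  exact hle hx

theorem odd_lift : Cfsg.oddGenerated (lift R) = lift R :=
  le_antisymm ((closure_le _).2 fun _ hx => hx.1)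
    ((closure_le _).2 fun x hx => subset_closure ⟨subset_closure hx, hx.2⟩)

theorem bar_lift (hp : p.Prime) (hp2 : p ≠ 2) (hR : IsPGroup p R) : bar M (lift R) = R := by
  refine le_antisymm ?_ fun r hr => ?_
  · rintro _ ⟨m, hm, rfl⟩
    have hle : lift R ≤ (R.comap (QuotientGroup.mk' (Cfsg.pCore 2 ↥M))).map M.subtype :=
      (closure_le _).2 fun x hx => hx.1
    obtain ⟨m', hm', e⟩ := hle hm
    rwa [show m = m' from Subtype.ext e.symm]
  · obtain ⟨y, rfl⟩ := QuotientGroup.mk'_surjective _ r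
    haveI := Fact.mk hp
    obtain ⟨k, m, hm, he⟩ := Nat.exists_eq_two_pow_mul_odd (orderOf_pos y).ne'
    obtain ⟨i, hi⟩ := IsPGroup.iff_orderOf.1 hR ⟨_, hr⟩
    rw [Subgroup.orderOf_mk] at hi
    obtain ⟨n, hn⟩ := exists_pow_eq_self_of_coprime (n := 2 ^ k)
      (x := QuotientGroup.mk' (Cfsg.pCore 2 ↥M) y)
      (by rw [hi]; exact Nat.Coprime.pow k i ((Nat.coprime_primes Nat.prime_two hp).2 hp2.symm))
    have hodd : Odd (orderOf (y ^ 2 ^ k)) := by
      rw [orderOf_pow, he, Nat.gcd_eq_right (dvd_mul_right _ _), Nat.mul_div_cancel_left _ (Nat.two_pow_pos k)]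
      exact hm
    refine ⟨(y ^ 2 ^ k) ^ n, ?_, by rw [map_pow, map_pow, hn]⟩
    show (y ^ 2 ^ k) ^ n ∈ (lift R).subgroupOf M
    refine pow_mem ?_ n
    refine subset_closure ⟨⟨y ^ 2 ^ k, ?_, rfl⟩, ?_⟩
    swap
    · show Odd (orderOf ((y ^ 2 ^ k : M) : G))
      rwa [Subgroup.orderOf_coe]
    show QuotientGroup.mk' (Cfsg.pCore 2 ↥M) (y ^ 2 ^ k) ∈ R
    rw [map_pow]
    exact pow_mem hr _

theorem core_lift {x : G} (hx : x ∈ lift R) :
    x ∈ Cfsg.pCoreTwoOf (lift R) ↔ QuotientGroup.mk' (Cfsg.pCore 2 ↥M) ⟨x, lift_le hx⟩ = 1 := by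
  haveI : Fact (Nat.Prime 2) := ⟨Nat.prime_two⟩
  rw [show QuotientGroup.mk' (Cfsg.pCore 2 ↥M) (⟨x, lift_le hx⟩ : M) = 1 ↔ (⟨x, lift_le hx⟩ : M) ∈ Cfsg.pCore 2 ↥M
    from QuotientGroup.eq_one_iff _]
  constructor
  · intro h
    have hn : M ≤ normalizer ((Cfsg.pCoreTwoOf (lift R) : Subgroup G) : Set G) :=
      (le_normalizer_lift (R := R)).trans
        (Coprime.OmegaDetect.normalizer_le_normalizer_char (lift R) (Cfsg.pCore 2 ↥(lift R)))
    obtain ⟨y, hy, hyx⟩ := CharP.le_pCoreOf ((map_subtype_le _).trans lift_le) hn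
      (CharP.isPGroup_pCoreOf 2 (lift R)) h
    rwa [show (⟨x, lift_le hx⟩ : M) = y from Subtype.ext hyx.symm]
  · intro h
    exact CharP.le_pCoreOf (p := 2) (N := lift R ⊓ Cfsg.pCoreOf 2 M) inf_le_left
      ((le_inf le_normalizer (lift_le.trans (CharP.le_normalizer_pCoreOf 2 M))).trans
        inf_normalizer_le_normalizer_inf)
      ((CharP.isPGroup_pCoreOf 2 M).to_le inf_le_right) ⟨hx, ⟨_, h, rfl⟩⟩

theorem mem_xi (h : Hyp T M) (hrk : QTXi.RankTwo (Bar M)) (s : Sect T M p R) :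
    lift R ∈ Cfsg.Xi (T : Subgroup G) := by
  haveI : Fact (Nat.Prime 2) := ⟨Nat.prime_two⟩
  haveI := Fact.mk s.prime
  set X := lift R with hX
  have hbar := bar_lift s.prime s.odd s.pgroup
  have hTX : (T : Subgroup G) ≤ normalizer (X : Set G) := (Hyp.T_le h.mem).trans le_normalizer_lift
  let e : ↥X →* ↥R := ((QuotientGroup.mk' (Cfsg.pCore 2 ↥M)).comp (inclusion (lift_le (R := R)))).codRestrict R
    fun x => hbar.le ⟨⟨x, lift_le x.2⟩, x.2, rfl⟩
  have hesurj : Function.Surjective e := by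
    rintro ⟨r, hr⟩
    obtain ⟨m, hm, rfl⟩ := hbar.ge hr
    exact ⟨⟨m, hm⟩, Subtype.ext rfl⟩
  have hker : e.ker = Cfsg.pCore 2 ↥X := by
    ext x
    rw [MonoidHom.mem_ker, ← Subtype.coe_inj]
    show QuotientGroup.mk' (Cfsg.pCore 2 ↥M) ⟨x, lift_le x.2⟩ = 1 ↔ _
    rw [← core_lift x.2]
    exact mem_map_iff_mem X.subtype_injective
  let E : (↥X ⧸ Cfsg.pCore 2 ↥X) ≃* ↥R :=
    (QuotientGroup.quotientMulEquivOfEq hker.symm).trans (QuotientGroup.quotientKerEquivOfSurjective e hesurj)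
  have hphi : ∀ x : X, QuotientGroup.mk' (Cfsg.pCore 2 ↥X) x ∈ frattini (↥X ⧸ Cfsg.pCore 2 ↥X) ↔
      e x ∈ frattini ↥R := by
    intro x
    have hEx : E (QuotientGroup.mk' _ x) = e x := rfl
    refine ⟨fun hx => hEx ▸ frattini_le_comap_frattini_of_surjective (φ := E.toMonoidHom) E.surjective hx,
      fun hx => ?_⟩
    have h1 := frattini_le_comap_frattini_of_surjective (φ := E.symm.toMonoidHom) E.symm.surjective hx
    rwa [mem_comap, MulEquiv.coe_toMonoidHom, ← hEx, MulEquiv.symm_apply_apply] at h1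
  refine ⟨odd_lift, hTX, fun ebot => ?_, ⟨p, s.prime, s.odd, ?_⟩, fun Y hY1 hY2 hY3 => ?_⟩
  · have hne : Cfsg.pCoreOf 2 (X ⊔ (T : Subgroup G)) ≠ ⊥ := fun e' => Hyp.core_ne h.mem.1.1 (le_bot_iff.1 (e' ▸
      CharP.le_pCoreOf (h.core_le.trans le_sup_right)
        ((sup_le lift_le (Hyp.T_le h.mem)).trans (CharP.le_normalizer_pCoreOf 2 M))
        (CharP.isPGroup_pCoreOf 2 M)))
    exact hne (by rw [Cfsg.pCoreOf, ebot, Subgroup.map_bot])
  · rcases s.shape_card hrk with ⟨hc, hcomm⟩ | ⟨hc, hcomm⟩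
    · exact Or.inl ⟨(Nat.card_congr E.toEquiv).trans hc, ⟨⟨fun a b => E.injective (by
        rw [map_mul, map_mul]; exact hcomm.is_comm.comm _ _)⟩⟩,
        fun x => E.injective (by rw [map_pow, map_one]; exact Subtype.ext (s.exp _ (E x).2))⟩
    · exact Or.inr ⟨(Nat.card_congr E.toEquiv).trans hc, fun hh => hcomm ⟨⟨fun a b => E.symm.injective (by
        rw [map_mul, map_mul]; exact hh.is_comm.comm _ _)⟩⟩⟩
  -- irreducibility
  set q := QuotientGroup.mk' (frattini ↥R)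
  set J := (Y.subgroupOf X).map (q.comp e) with hJ
  have hinv : ∀ t ∈ (T : Subgroup G), ∀ v ∈ J,
      ∀ ht : t ∈ M, act R (QuotientGroup.mk' (Cfsg.pCore 2 ↥M) ⟨t, ht⟩) v ∈ J := by
    rintro t ht _ ⟨y, hy, rfl⟩ htM
    have hy' : t * y * t⁻¹ ∈ X := (mem_normalizer_iff.1 (hTX ht) _).1 y.2
    refine ⟨⟨_, hy'⟩, (mem_normalizer_iff.1 (hY3 ht) _).1 hy, ?_⟩
    show q (e ⟨_, hy'⟩) = act R _ (q (e y))
    rw [act_apply]
    refine congrArg q (Subtype.ext ?_)
    rw [MulAut.conjNormal_apply]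
    show QuotientGroup.mk' (Cfsg.pCore 2 ↥M) ⟨t * y * t⁻¹, lift_le hy'⟩ =
      QuotientGroup.mk' _ ⟨t, htM⟩ * QuotientGroup.mk' _ ⟨y, lift_le y.2⟩ * (QuotientGroup.mk' _ ⟨t, htM⟩)⁻¹
    rw [← map_inv, ← map_mul, ← map_mul]
    rfl
  have hvcard : Nat.card (↥R ⧸ frattini ↥R) = p ^ 2 := by rw [← index_eq_card, s.index]
  obtain ⟨j, hj, hjc⟩ := (Nat.dvd_prime_pow s.prime).1 (hvcard ▸ J.card_subgroup_dvd_card)
  interval_cases j
  · left
    have hJ1 : J = ⊥ := eq_bot_of_card_eq _ (by rw [hjc, pow_zero])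
    refine le_antisymm (fun x hx => ?_) hY1
    have h1 : q (e ⟨x, hY2 hx⟩) ∈ J := ⟨⟨x, hY2 hx⟩, hx, rfl⟩
    rw [hJ1, mem_bot] at h1
    exact ⟨⟨x, hY2 hx⟩, (hphi _).2 ((QuotientGroup.eq_one_iff _).1 h1), rfl⟩
  · exfalso
    obtain ⟨v, hv, hv1⟩ := J.ne_bot_iff_exists_ne_one.1 (fun e1 => by
      rw [e1, card_bot, pow_one] at hjc; exact s.prime.ne_one hjc.symm) |> fun ⟨v, hv⟩ =>
        (⟨v, v.2, fun e1 => hv (Subtype.ext e1)⟩ : ∃ v, v ∈ J ∧ v ≠ 1)
    have hexp : v ^ p = 1 := by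
      obtain ⟨r, rfl⟩ := QuotientGroup.mk'_surjective _ v
      rw [← map_pow, show r ^ p = 1 from Subtype.ext (s.exp r r.2), map_one]
    have hz : zpowers v = J := Subgroup.eq_of_le_of_card_ge (zpowers_le.2 hv) (by
      rw [hjc, Nat.card_zpowers, orderOf_eq_prime hexp hv1, pow_one])
    obtain ⟨_, ⟨⟨t, htM⟩, ht, rfl⟩, htv⟩ := s.irr v hv1
    exact htv (hz.ge (hinv t ht v hv htM))
  · right
    have hJ1 : J = ⊤ := eq_top_of_card_eq _ (by rw [hjc, hvcard])
    refine le_antisymm hY2 fun x hx => ?_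
    obtain ⟨y, hy, hye⟩ := hJ1.ge (mem_top (q (e ⟨x, hx⟩)))
    have hyx : y⁻¹ * ⟨x, hx⟩ ∈ (frattini (↥X ⧸ Cfsg.pCore 2 ↥X)).comap (QuotientGroup.mk' _) := by
      refine (hphi _).2 ((QuotientGroup.eq_one_iff _).1 ?_)
      show q (e (y⁻¹ * ⟨x, hx⟩)) = 1
      rw [map_mul, map_mul, map_inv, map_inv, show q (e y) = q (e ⟨x, hx⟩) from hye, inv_mul_cancel]
    rw [show x = (y : G) * ((y⁻¹ * ⟨x, hx⟩ : X) : G) by simp]
    exact mul_mem hy (hY1 ⟨_, hyx, rfl⟩)

variable [IsSimpleGroup G]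

/-- The uniqueness group is not in `C`. -/
theorem lift_spec (hG : ¬ IsMulCommutative G) (hQ : Cfsg.IsQTKE G) (h : Hyp T M)
    (hrk : QTXi.RankTwo (Bar M)) (s : Sect T M p R) :
    lift R ∈ Cfsg.XiStar (T : Subgroup G) ∧ normalizer (lift R : Set G) = M ∧ ¬ lift R ≤ cz T := by
  have hxi : lift R ∈ Cfsg.XiStar (T : Subgroup G) :=
    ⟨mem_xi h hrk s, fun L hL => absurd hL (h.calL_empty ▸ Set.notMem_empty L)⟩
  have hset := S1822.result hG hQ T (lift R) hxi
  have hmem : ∀ N, N ∈ Cfsg.maxTwoLocalsContaining (cz T) → lift R ≤ N →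
      N = normalizer (lift R : Set G) := fun N hN hle => by
    have h1 : N ∈ Cfsg.maxTwoLocalsContaining (lift R ⊔ (T : Subgroup G)) := ⟨hN.1, sup_le hle (Hyp.T_le hN)⟩
    rwa [hset] at h1
  refine ⟨hxi, (hmem M h.mem lift_le).symm, fun hle => ?_⟩
  obtain ⟨N, hN, hne⟩ := h.two
  exact hne ((hmem N hN (hle.trans hN.2)).trans (hmem M h.mem (hle.trans h.mem.2)).symm)

theorem lift_mem_calXf (hG : ¬ IsMulCommutative G) (hQ : Cfsg.IsQTKE G) (h : Hyp T M)
    (hrk : QTXi.RankTwo (Bar M)) (s : Sect T M p R) : lift R ∈ Cfsg.calXf G := by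
  haveI : Fact (Nat.Prime 2) := ⟨Nat.prime_two⟩
  have hns := (lift_spec hG hQ h hrk s).2.2
  set X := lift R with hX
  have hXM : X ≤ M := lift_le
  refine ⟨⟨fun e => hns (e.le.trans bot_le), odd_lift, ?_⟩, fun hV => hns ?_⟩
  · haveI : (X.subgroupOf M).Normal := (normal_subgroupOf_iff_le_normalizer hXM).2 le_normalizer_lift
    have h1 := (CharP.isCharP_iff _).1 (CharP.isCharP_of_isSubnormal ((CharP.isCharP_iff _).1 h.charP)
      (inferInstance : (X.subgroupOf M).Normal).isSubnormal)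
    exact CharP.genFitting_eq_pCore_iff.2 (InvChar.PConstrained.char_of_equiv (subgroupOfEquivOfLe hXM) h1)
  refine le_trans ?_ (Hyp.cent_le (M := M))
  set W := hull T M
  change ⁅InvChar.EvenChar.zone (Cfsg.pCoreOf 2 X), X⁆ = ⊥ at hV
  have hXW : X ≤ normalizer (W : Set G) := hXM.trans Hyp.le_normalizer_hull
  have hXO : Cfsg.pCoreOf 2 X ≤ Cfsg.pCoreOf 2 M :=
    CharP.le_pCoreOf ((CharP.pCoreOf_le 2 X).trans hXM) (le_normalizer_lift.trans
      (Coprime.OmegaDetect.normalizer_le_normalizer_char X (Cfsg.pCore 2 ↥X))) (CharP.isPGroup_pCoreOf 2 X)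
  have hWX : ⁅W, X⁆ ≤ InvChar.EvenChar.zone (Cfsg.pCoreOf 2 X) := by
    intro w hw
    have hwW : w ∈ W := Coprime.commutator_le_of_le_normalizer hXW hw
    obtain ⟨⟨hwO, hwC⟩, hw2⟩ := InvChar.EvenChar.mem_zone.1 (h.hull_le hwW)
    have hwX : w ∈ X := by
      have hle : ⁅X, W⁆ ≤ X := by
        rw [commutator_comm]
        exact commutator_le.2 fun a ha b hb => by
          rw [commutatorElement_def]
          exact mul_mem (Subgroup.le_normalizer_iff.1 (le_normalizer_lift (R := R)) a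
            (CharP.pCoreOf_le 2 M (InvChar.EvenChar.zone_le _ (h.hull_le ha))) b hb) (Subgroup.inv_mem _ hb)
      exact hle (by rwa [commutator_comm])
    refine InvChar.EvenChar.mem_zone.2 ⟨⟨?_, centralizer_le (SetLike.coe_subset_coe.2 hXO) hwC⟩, hw2⟩
    exact CharP.le_pCoreOf (p := 2) (N := X ⊓ Cfsg.pCoreOf 2 M) inf_le_left
      ((le_inf le_normalizer (hXM.trans (CharP.le_normalizer_pCoreOf 2 M))).trans
        inf_normalizer_le_normalizer_inf)
      ((CharP.isPGroup_pCoreOf 2 M).to_le inf_le_right) ⟨hwX, hwO⟩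
  refine (odd_lift (R := R)).ge.trans ((closure_le _).2 fun x hx => ?_)
  obtain ⟨hxX, hxo⟩ := hx
  have hcop : (Nat.card (zpowers x)).Coprime (Nat.card W) := by
    obtain ⟨k, hk⟩ := IsPGroup.iff_card.1
      ((CharP.isPGroup_pCoreOf 2 M).to_le (h.hull_le.trans (InvChar.EvenChar.zone_le _)))
    rw [hk, Nat.card_zpowers]
    exact (Nat.coprime_two_right.2 hxo).pow_right k
  refine Coprime.le_centralizer_of_commutator_commutator_eq_bot (A := zpowers x) (K := W)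
    ((zpowers_le.2 hxX).trans hXW) hcop
    (Or.inr (Coprime.isSolvable_of_isPGroup ((CharP.isPGroup_pCoreOf 2 M).to_le
      (h.hull_le.trans (InvChar.EvenChar.zone_le _)))))
    (le_bot_iff.1 (le_of_le_of_eq ?_ hV)) (mem_zpowers x)
  exact commutator_mono ((commutator_mono le_rfl (zpowers_le.2 hxX)).trans hWX) (zpowers_le.2 hxX)

end lift

end Cfsg.Agent.QTCentZ
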