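import Cfsg.Agent.OddLocal.AutRankTwo
import Cfsg.Agent.Lib.Transfer.NormalPComplement

/-!
# Automorphisms of an elementary abelian group of rank at most two

A finite group of automorphisms whose Sylow 2-subgroup fixes a line has a normal 2-complement; with an
element of order five on `5 ^ 2` and no fixed line three divides the order.
-/

set_option autoImplicit false
set_option linter.unusedSectionVars false
set_option linter.style.haveILetI false

namespace Cfsg.Agent.QTCentZ.Plane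

open Subgroup
open scoped Pointwise

universe u

variable {V : Type u} [CommGroup V] [Finite V] {p : ℕ} [hp : Fact p.Prime]

/-- The setting: exponent `p`, order `p ^ 2`. -/
structure Is (p : ℕ) (V : Type u) [CommGroup V] : Prop where
  exp : ∀ v : V, v ^ p = 1
  card : Nat.card V = p ^ 2

namespace Is

variable (hV : Is p V)

include hV

theorem order {a : V} (ha : a ≠ 1) : orderOf a = p := orderOf_eq_prime (hV.exp a) ha

theorem card_line {a : V} (ha : a ≠ 1) : Nat.card (zpowers a) = p := by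
  rw [Nat.card_zpowers, hV.order ha]

theorem exists_notMem {a : V} (ha : a ≠ 1) : ∃ b : V, b ∉ zpowers a := by
  by_contra hn
  push Not at hn
  have h1 := hV.card_line ha
  rw [(eq_top_iff' _).2 hn, card_top, hV.card] at h1
  nlinarith [hp.out.two_le]

/-- Coordinates. -/
theorem span {a b : V} (ha : a ≠ 1) (hb : b ∉ zpowers a) : zpowers a ⊔ zpowers b = ⊤ := by
  obtain ⟨j, hj, hjc⟩ := (Nat.dvd_prime_pow hp.out).1 (hV.card ▸
    Subgroup.card_subgroup_dvd_card (zpowers a ⊔ zpowers b))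
  refine eq_top_of_card_eq _ ?_
  rcases Nat.lt_or_ge j 2 with h | h
  · exfalso
    have e : zpowers a = zpowers a ⊔ zpowers b := Subgroup.eq_of_le_of_card_ge le_sup_left (by
      rw [hjc, hV.card_line ha]
      exact le_of_le_of_eq (Nat.pow_le_pow_right hp.out.pos (by omega : j ≤ 1)) (pow_one p))
    exact hb (e.ge (mem_sup_right (mem_zpowers b)))
  · rw [hjc, hV.card, show j = 2 by omega]

theorem coords {a b : V} (ha : a ≠ 1) (hb : b ∉ zpowers a) (v : V) : ∃ i j : ℤ, v = a ^ i * b ^ j := by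
  obtain ⟨_, ⟨i, rfl⟩, _, ⟨j, rfl⟩, e⟩ := mem_sup.1 ((hV.span ha hb).ge (mem_top v))
  exact ⟨i, j, e.symm⟩

theorem line_inf {a b : V} (hb : b ∉ zpowers a) {i j : ℤ} (h : a ^ i = b ^ j) : b ^ j = 1 := by
  by_contra hne
  have hb1 : b ≠ 1 := fun e => hb (e ▸ one_mem _)
  have hmem : b ^ j ∈ zpowers a := h ▸ zpow_mem (mem_zpowers a) i
  have e : zpowers (b ^ j) = zpowers b := Subgroup.eq_of_le_of_card_ge
    (zpowers_le.2 (zpow_mem (mem_zpowers b) j)) (by rw [hV.card_line hne, hV.card_line hb1])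
  exact hb (zpowers_le.2 hmem (e.ge (mem_zpowers b)))

/-- An automorphism of 2-power order trivial on a line and on the quotient is trivial. -/
theorem eq_one {a b : V} (ha : a ≠ 1) (hb : b ∉ zpowers a) {s : MulAut V} (hp2 : p ≠ 2) {k : ℕ}
    (hs : s ^ 2 ^ k = 1) (h1 : s a = a) (h2 : s b * b⁻¹ ∈ zpowers a) : s = 1 := by
  set l := s b * b⁻¹ with hl
  have hsl : s l = l := by
    obtain ⟨i, hi⟩ := h2
    have hi' : a ^ i = l := hi
    rw [← hi', map_zpow, h1]
  have hit : ∀ n : ℕ, (s ^ n) b = l ^ n * b := by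
    intro n
    induction n with
    | zero => simp
    | succ n ih => rw [pow_succ', MulAut.mul_apply, ih, map_mul, map_pow, hsl, pow_succ, mul_assoc,
        hl, inv_mul_cancel_right]
  have h3 := hit (2 ^ k)
  rw [hs, MulAut.one_apply, eq_comm, mul_eq_right] at h3
  have hl1 : l = 1 := orderOf_eq_one_iff.1 (Nat.eq_one_of_dvd_coprimes
    (((Nat.coprime_primes Nat.prime_two hp.out).2 hp2.symm).pow_left k)
    (orderOf_dvd_of_pow_eq_one h3) (orderOf_dvd_of_pow_eq_one (hV.exp l)))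
  have hsb : s b = b := mul_inv_eq_one.1 hl1
  refine MulEquiv.ext fun v => ?_
  obtain ⟨i, j, rfl⟩ := hV.coords ha hb v
  rw [map_mul, map_zpow, map_zpow, h1, hsb, MulAut.one_apply]

omit hp in
theorem comm_line {a : V} {f g : MulAut V} (hf : f a ∈ zpowers a) (hg : g a ∈ zpowers a) :
    f (g a) = g (f a) := by
  obtain ⟨i, hi⟩ := hf
  obtain ⟨j, hj⟩ := hg
  have hi' : a ^ i = f a := hi
  have hj' : a ^ j = g a := hj
  rw [← hi', ← hj', map_zpow, map_zpow, ← hi', ← hj', ← zpow_mul, ← zpow_mul, mul_comm]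

/-- Two automorphisms fixing a line commute modulo the elements trivial on it and on the quotient. -/
theorem comm_quot {a b : V} (ha : a ≠ 1) (hb : b ∉ zpowers a) {f g : MulAut V}
    (hf : f a ∈ zpowers a) (hg : g a ∈ zpowers a) : f (g b) * (g (f b))⁻¹ ∈ zpowers a := by
  obtain ⟨i, n, hn⟩ := hV.coords ha hb (f b)
  obtain ⟨j, m, hm⟩ := hV.coords ha hb (g b)
  rw [hn, hm, map_mul, map_mul, map_zpow, map_zpow, map_zpow, map_zpow, hn, hm, mul_zpow, mul_zpow,
    ← zpow_mul b, ← zpow_mul b, mul_comm n m]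
  rw [show f a ^ j * ((a ^ i) ^ m * b ^ (m * n)) * (g a ^ i * ((a ^ j) ^ n * b ^ (m * n)))⁻¹ =
    f a ^ j * (a ^ i) ^ m * (g a ^ i * (a ^ j) ^ n)⁻¹ by group]
  exact mul_mem (mul_mem (zpow_mem hf j) (zpow_mem (zpow_mem (mem_zpowers a) i) m)) (Subgroup.inv_mem _
    (mul_mem (zpow_mem hg i) (zpow_mem (zpow_mem (mem_zpowers a) j) n)))

theorem comm_eq_one {a b : V} (ha : a ≠ 1) (hb : b ∉ zpowers a) (hp2 : p ≠ 2) {S : Subgroup (MulAut V)}
    (hS : IsPGroup 2 S) {f g : MulAut V} (hf : f a ∈ zpowers a) (hg : g a ∈ zpowers a)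
    (hmem : (g * f)⁻¹ * (f * g) ∈ S) : f * g = g * f := by
  obtain ⟨k, hk⟩ := hS ⟨_, hmem⟩
  have hk' : ((g * f)⁻¹ * (f * g)) ^ 2 ^ k = 1 := congrArg Subtype.val hk
  refine (inv_mul_eq_one.1 (hV.eq_one ha hb hp2 hk' ?_ ?_)).symm
  · rw [MulAut.mul_apply, MulAut.mul_apply, comm_line (hV := hV) hf hg, ← MulAut.mul_apply _ g f,
      MulAut.inv_apply_self]
  · rw [MulAut.mul_apply, MulAut.mul_apply]
    set y := f (g b) * (g (f b))⁻¹ with hy
    obtain ⟨i, hi⟩ := hV.comm_quot ha hb hf hg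
    have hi' : a ^ i = y := hi
    have e : f (g b) = y * g (f b) := by rw [hy, inv_mul_cancel_right]
    rw [e, map_mul, ← MulAut.mul_apply _ g f b, MulAut.inv_apply_self, mul_inv_cancel_right, ← hi', map_zpow]
    refine zpow_mem ?_ i
    have hgf : (g * f) a ∈ zpowers a := by
      obtain ⟨c, hc⟩ := hf
      rw [MulAut.mul_apply, ← show a ^ c = f a from hc, map_zpow]
      exact zpow_mem hg c
    obtain ⟨c, hc⟩ := hgf
    have hc' : a ^ c = (g * f) a := hc
    have hne : (g * f) a ≠ 1 := by rw [ne_eq, EmbeddingLike.map_eq_one_iff]; exact ha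
    have e2 : zpowers ((g * f) a) = zpowers a := Subgroup.eq_of_le_of_card_ge
      (zpowers_le.2 ⟨c, hc⟩) (by rw [hV.card_line hne, hV.card_line ha])
    obtain ⟨d, hd⟩ := e2.ge (mem_zpowers a)
    have hd' : ((g * f) a) ^ d = a := hd
    refine ⟨d, ?_⟩
    show a ^ d = (g * f)⁻¹ a
    conv_rhs => rw [← hd', map_zpow, MulAut.inv_apply_self]

/-- Three fixed lines: a scalar. -/
theorem scalar {a b c : V} (ha : a ≠ 1) (hb : b ∉ zpowers a) (hca : c ∉ zpowers a) (hcb : c ∉ zpowers b)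
    {s : MulAut V} (hsa : s a ∈ zpowers a) (hsb : s b ∈ zpowers b) (hsc : s c ∈ zpowers c) :
    ∃ k : ℤ, ∀ v, s v = v ^ k := by
  obtain ⟨i, j, hc⟩ := hV.coords ha hb c
  obtain ⟨m, hm⟩ := hsa
  obtain ⟨n, hn⟩ := hsb
  obtain ⟨k, hk⟩ := hsc
  have hm' : a ^ m = s a := hm
  have hn' : b ^ n = s b := hn
  have hk' : c ^ k = s c := hk
  rw [hc, map_mul, map_zpow, map_zpow, ← hm', ← hn', mul_zpow, ← zpow_mul, ← zpow_mul, ← zpow_mul,
    ← zpow_mul] at hk'
  have h0 : a ^ (i * k - m * i) = b ^ (n * j - j * k) := by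
    rw [zpow_sub, zpow_sub, ← mul_inv_eq_iff_eq_mul, inv_inv]
    rw [mul_right_comm, hk', mul_assoc, mul_comm (b ^ (n * j)), ← mul_assoc]
    simp [mul_comm, mul_left_comm]
  have hbz := hV.line_inf hb h0
  rw [hbz] at h0
  have hcan : ∀ (x : V) (r q : ℤ), x ^ (r * q) = 1 → x ^ r ≠ 1 → x ^ q = 1 := by
    intro x r q h1 h2
    have hx : x ≠ 1 := fun e => h2 (by rw [e, one_zpow])
    have e : zpowers (x ^ r) = zpowers x := Subgroup.eq_of_le_of_card_ge
      (zpowers_le.2 (zpow_mem (mem_zpowers x) r)) (by rw [hV.card_line h2, hV.card_line hx])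
    obtain ⟨d, hd⟩ := e.ge (mem_zpowers x)
    have hd' : (x ^ r) ^ d = x := hd
    calc x ^ q = ((x ^ r) ^ d) ^ q := by rw [hd']
      _ = (x ^ (r * q)) ^ d := by rw [← zpow_mul, ← zpow_mul, ← zpow_mul]; ring_nf
      _ = 1 := by rw [h1, one_zpow]
  have hai : a ^ i ≠ 1 := fun e => hcb (by rw [hc, e, one_mul]; exact zpow_mem (mem_zpowers b) j)
  have hbj : b ^ j ≠ 1 := fun e => hca (by rw [hc, e, mul_one]; exact zpow_mem (mem_zpowers a) i)
  have h1 : a ^ (k - m) = 1 := hcan a i _ (by rw [← h0]; ring_nf) hai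
  have h2 : b ^ (n - k) = 1 := hcan b j _ (by rw [← hbz]; ring_nf) hbj
  rw [zpow_sub, mul_inv_eq_one] at h1 h2
  refine ⟨k, fun v => ?_⟩
  obtain ⟨r, q, rfl⟩ := hV.coords ha hb v
  rw [map_mul, map_zpow, map_zpow, ← hm', ← hn', ← h1, h2, mul_zpow, ← zpow_mul, ← zpow_mul,
    ← zpow_mul, ← zpow_mul, mul_comm k r, mul_comm k q]

/-- A Sylow 2-subgroup with a fixed line gives a normal 2-complement. -/
theorem complement (hp2 : p ≠ 2) {H : Subgroup (MulAut V)} (S : Sylow 2 H) {a : V} (ha : a ≠ 1)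
    (hfix : ∀ s : H, s ∈ (S : Subgroup H) → (s : MulAut V) a ∈ zpowers a) :
    Cfsg.HasNormalPComplement 2 H := by
  haveI : Fact (Nat.Prime 2) := ⟨Nat.prime_two⟩
  obtain ⟨b, hb⟩ := hV.exists_notMem ha
  set S' := (S : Subgroup H).map H.subtype
  have hS' : IsPGroup 2 S' := S.isPGroup'.map _
  have hab : ∀ s ∈ (S : Subgroup H), ∀ t ∈ (S : Subgroup H), s * t = t * s := fun s hs t ht =>
    Subtype.ext (hV.comm_eq_one ha hb hp2 hS' (hfix s hs) (hfix t ht)
      ⟨(t * s)⁻¹ * (s * t), mul_mem (Subgroup.inv_mem _ (mul_mem ht hs)) (mul_mem hs ht), by simp⟩)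
  refine Transfer.NormalPComplement.hasNormalPComplement_of_normalizer_le_centralizer S fun g hg => ?_
  obtain ⟨m, k, hk, hm⟩ : ∃ m k, orderOf g = 2 ^ k * m ∧ ¬ 2 ∣ m := by
    obtain ⟨k, m, hm, e⟩ := Nat.exists_eq_two_pow_mul_odd (orderOf_pos g).ne'
    exact ⟨m, k, e, fun hd => Nat.not_even_iff_odd.2 hm (even_iff_two_dvd.2 hd)⟩
  -- the 2-part lies in `S`
  have h2mem : ∀ x ∈ normalizer ((S : Subgroup H) : Set H), x ^ 2 ^ k = 1 → x ∈ (S : Subgroup H) := by
    intro x hx hxk
    have hX : IsPGroup 2 (zpowers x) := by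
      obtain ⟨r, -, hr⟩ := (Nat.dvd_prime_pow Nat.prime_two).1 (orderOf_dvd_of_pow_eq_one hxk)
      exact IsPGroup.of_card (n := r) (by rw [Nat.card_zpowers, hr])
    have := IsPGroup.to_sup_of_normal_left' S.isPGroup' hX (zpowers_le.2 hx)
    exact (S.is_maximal' this le_sup_left).le (mem_sup_right (mem_zpowers x))
  have hoddc : ∀ x ∈ normalizer ((S : Subgroup H) : Set H), Odd (orderOf x) →
      x ∈ centralizer ((S : Subgroup H) : Set H) := by
    intro x hx ho
    refine mem_centralizer_iff.2 fun s hs => Subtype.ext ?_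
    show (s : MulAut V) * (x : MulAut V) = (x : MulAut V) * s
    set f := (x : MulAut V)
    have hxS : ∀ n : ℕ, ∀ t ∈ (S : Subgroup H), (f ^ n)⁻¹ * (t : MulAut V) * f ^ n = ((x ^ n)⁻¹ * t * x ^ n : H) := by
      intro n t _; simp [f]
    by_cases hfa : f a ∈ zpowers a
    · refine hV.comm_eq_one ha hb hp2 hS' (hfix s hs) hfa ⟨(x * s)⁻¹ * (s * x), ?_, by simp [f]⟩
      rw [show (x * s)⁻¹ * (s * x) = s⁻¹ * (x⁻¹ * s * x) by group]
      exact mul_mem (Subgroup.inv_mem _ hs) ((mem_normalizer_iff''.1 hx s).1 hs)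
    -- three lines fixed by every element
    have hline : ∀ (n : ℕ), ∀ t ∈ (S : Subgroup H), (t : MulAut V) ((f ^ n) a) ∈ zpowers ((f ^ n) a) := by
      intro n t ht
      have hxn : x ^ n ∈ normalizer ((S : Subgroup H) : Set H) := pow_mem hx n
      obtain ⟨i, hi⟩ := hfix _ ((mem_normalizer_iff''.1 hxn t).1 ht)
      have hi' : a ^ i = ((f ^ n)⁻¹ * (t : MulAut V) * f ^ n) a := by rw [hxS n t ht]; exact hi
      refine ⟨i, ?_⟩
      show ((f ^ n) a) ^ i = _
      rw [← map_zpow, hi', MulAut.mul_apply, MulAut.mul_apply, MulAut.apply_inv_self]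
    have hne : ∀ n : ℕ, (f ^ n) a ≠ 1 := fun n e => ha ((EmbeddingLike.map_eq_one_iff).1 e)
    have hsame : ∀ n : ℕ, (f ^ n) a ∈ zpowers a → ∀ r : ℕ, (f ^ (n * r)) a ∈ zpowers a := by
      intro n hn r
      induction r with
      | zero => simpa using mem_zpowers a
      | succ r ih =>
        obtain ⟨i, hi⟩ := ih
        have hi' : a ^ i = (f ^ (n * r)) a := hi
        rw [mul_add, mul_one, add_comm, pow_add, MulAut.mul_apply, ← hi', map_zpow]
        exact zpow_mem hn i
    have h2 : (f ^ 2) a ∉ zpowers a := by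
      intro h2
      obtain ⟨r, hr⟩ := ho
      refine hfa ?_
      have h3 := hsame 2 h2 (r + 1)
      have e : f ^ (2 * (r + 1)) = f := by
        rw [show 2 * (r + 1) = orderOf x + 1 by omega, pow_succ,
          show f ^ orderOf x = 1 from congrArg Subtype.val (pow_orderOf_eq_one x), one_mul]
      rwa [e] at h3
    have h12 : (f ^ 2) a ∉ zpowers (f a) := by
      rintro ⟨i, hi⟩
      have hi' : (f a) ^ i = (f ^ 2) a := hi
      rw [pow_two, MulAut.mul_apply, ← map_zpow] at hi'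
      exact hfa ⟨i, f.injective hi'⟩
    obtain ⟨k', hk'⟩ := hV.scalar ha (by simpa using hfa) h2 h12 (hfix s hs)
      (by simpa using hline 1 s hs) (hline 2 s hs)
    refine MulEquiv.ext fun v => ?_
    rw [MulAut.mul_apply, MulAut.mul_apply, hk', hk', map_zpow]
  obtain ⟨u, hu⟩ : ∃ u, u = g ^ m := ⟨_, rfl⟩
  obtain ⟨w, hw⟩ : ∃ w, w = g ^ 2 ^ k := ⟨_, rfl⟩
  have huS : u ∈ (S : Subgroup H) := h2mem u (hu ▸ pow_mem hg m) (by
    rw [hu, ← pow_mul, mul_comm, ← hk, pow_orderOf_eq_one])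
  have hwC : w ∈ centralizer ((S : Subgroup H) : Set H) := hoddc w (hw ▸ pow_mem hg _) (by
    have hd : orderOf w ∣ m := orderOf_dvd_of_pow_eq_one (by rw [hw, ← pow_mul, ← hk, pow_orderOf_eq_one])
    exact Nat.not_even_iff_odd.1 fun he => hm ((even_iff_two_dvd.1 he).trans hd))
  have huC : u ∈ centralizer ((S : Subgroup H) : Set H) :=
    mem_centralizer_iff.2 fun s hs => hab s hs u huS
  have hcop : Nat.gcd m (2 ^ k) = 1 := Nat.Coprime.pow_right k
    (Nat.Coprime.symm ((Nat.prime_two.coprime_iff_not_dvd).2 hm))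
  have e := Nat.gcd_eq_gcd_ab m (2 ^ k)
  rw [hcop] at e
  rw [show g = u ^ (Nat.gcdA m (2 ^ k)) * w ^ (Nat.gcdB m (2 ^ k)) by
    rw [hu, hw, ← zpow_natCast g m, ← zpow_natCast g (2 ^ k), ← zpow_mul, ← zpow_mul, ← zpow_add, ← e,
      Nat.cast_one, zpow_one]]
  exact mul_mem (zpow_mem huC _) (zpow_mem hwC _)

/-- An irreducible 2-group contains minus one. -/
theorem exists_neg {S : Subgroup (MulAut V)} (hS : IsPGroup 2 S)
    (hirr : ∀ a : V, a ≠ 1 → ∃ s ∈ S, s a ∉ zpowers a) :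
    ∃ j ∈ S, j ≠ 1 ∧ ∀ v, j v = v⁻¹ := by
  haveI : Fact (Nat.Prime 2) := ⟨Nat.prime_two⟩
  haveI : Nontrivial V := Finite.one_lt_card_iff_nontrivial.1 (by
    rw [hV.card]; exact Nat.one_lt_pow two_ne_zero hp.out.one_lt)
  obtain ⟨a, ha⟩ := exists_ne (1 : V)
  obtain ⟨s, hs, hsa⟩ := hirr a ha
  haveI : Nontrivial S := ⟨⟨⟨s, hs⟩, 1, fun e => hsa (by
    rw [show s = 1 from congrArg Subtype.val e]; exact mem_zpowers a)⟩⟩
  haveI : Nontrivial (Subgroup.center S) := hS.center_nontrivial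
  obtain ⟨n, hn, hnc⟩ := (hS.to_subgroup (Subgroup.center S)).nontrivial_iff_card.1 inferInstance
  obtain ⟨z, hz⟩ := exists_prime_orderOf_dvd_card' 2 (G := Subgroup.center S) (hnc ▸ dvd_pow_self 2 hn.ne')
  set j := (((z : S)) : MulAut V) with hj
  have hj2 : j * j = 1 := by
    have := pow_orderOf_eq_one z
    rw [hz, pow_two] at this
    exact congrArg (fun w : Subgroup.center S => ((w : S) : MulAut V)) this
  have hj1 : j ≠ 1 := fun e => by
    have : z = 1 := Subtype.ext (Subtype.ext e)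
    rw [this, orderOf_one] at hz
    omega
  refine ⟨j, (z : S).2, hj1, fun v => ?_⟩
  by_contra hne
  set w := v * j v with hw
  have hw1 : w ≠ 1 := fun e => hne (eq_inv_of_mul_eq_one_right e)
  have hjw : j w = w := by
    rw [hw, map_mul, ← MulAut.mul_apply, hj2, MulAut.one_apply, mul_comm]
  obtain ⟨t, ht, htw⟩ := hirr w hw1
  refine hj1 (MulEquiv.ext fun x => ?_)
  have hjt : j (t w) = t w := by
    have := congrArg (fun y : S => (y : MulAut V) w) (mem_center_iff.1 z.2 ⟨t, ht⟩)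
    simp only [Subgroup.coe_mul, MulAut.mul_apply] at this
    rw [show j (t w) = t (j w) from this.symm, hjw]
  obtain ⟨i, i', rfl⟩ := hV.coords hw1 htw x
  rw [map_mul, map_zpow, map_zpow, hjw, hjt, MulAut.one_apply]

/-- An element of order `p` and no common fixed line: `p + 1` divides the order. -/
theorem succ_dvd {H : Subgroup (MulAut V)} {u : MulAut V} (hu : u ∈ H) (hup : u ^ p = 1) (hu1 : u ≠ 1)
    (hirr : ∀ a : V, a ≠ 1 → ∃ h ∈ H, h a ∉ zpowers a) : p + 1 ∣ Nat.card H := by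
  classical
  haveI := Fintype.ofFinite V
  set U := zpowers (⟨u, hu⟩ : H) with hU
  have hUp : IsPGroup p U := IsPGroup.of_card (n := 1) (by
    rw [hU, Nat.card_zpowers, pow_one, orderOf_eq_prime (Subtype.ext hup) fun e => hu1 (congrArg Subtype.val e)])
  -- a fixed vector
  obtain ⟨a, ha, hua⟩ : ∃ a : V, a ≠ 1 ∧ u a = a := by
    have h1 : (1 : V) ∈ MulAction.fixedPoints U V := fun g => smul_one g
    obtain ⟨b, hb, hb1⟩ := hUp.exists_fixed_point_of_prime_dvd_card_of_fixed_point V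
      (hV.card ▸ dvd_pow_self p two_ne_zero) h1
    exact ⟨b, fun e => hb1 e.symm, hb ⟨_, mem_zpowers _⟩⟩
  set L := zpowers a with hL
  have hsm : ∀ (g : H) (x : V), g • zpowers x = zpowers ((g : MulAut V) x) := fun g x => by
    show (zpowers x).map (g : MulAut V).toMonoidHom = _
    rw [MonoidHom.map_zpowers]
    rfl
  set O := MulAction.orbit H L with hO
  have hOl : ∀ K ∈ O, ∃ x : V, x ≠ 1 ∧ K = zpowers x := by
    rintro _ ⟨g, rfl⟩
    exact ⟨(g : MulAut V) a, by rw [ne_eq, EmbeddingLike.map_eq_one_iff]; exact ha, hsm g a⟩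
  -- only one fixed line
  have hfixed : MulAction.fixedPoints U O = {⟨L, MulAction.mem_orbit_self L⟩} := by
    ext K
    constructor
    · intro hK
      obtain ⟨x, hx, hKx⟩ := hOl K K.2
      refine Subtype.ext ?_
      show (K : Subgroup V) = L
      rw [hKx]
      by_contra hne
      have hxa : x ∉ zpowers a := fun h => hne (Subgroup.eq_of_le_of_card_ge (zpowers_le.2 h)
        (by rw [hV.card_line ha, hV.card_line hx]))
      have h1 := congrArg Subtype.val (hK ⟨_, mem_zpowers _⟩)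
      have h2 : (⟨u, hu⟩ : H) • (K : Subgroup V) = K := h1
      rw [hKx, hsm] at h2
      obtain ⟨i, hi⟩ := h2.le (mem_zpowers _)
      have hi' : x ^ i = u x := hi
      have hit : ∀ n : ℕ, (u ^ n) x = x ^ (i ^ n) := by
        intro n
        induction n with
        | zero => simp
        | succ n ih => rw [pow_succ', MulAut.mul_apply, ih, map_zpow, ← hi', ← zpow_mul, pow_succ']
      have h3 := hit p
      rw [hup, MulAut.one_apply] at h3
      have h4 : x ^ i = x := by
        have hm : (p : ℤ) ∣ i ^ p - i := by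
          have := ZMod.pow_card (p := p) (i : ZMod p)
          rw [← ZMod.intCast_zmod_eq_zero_iff_dvd]
          push_cast
          rw [this, sub_self]
        obtain ⟨c, hc⟩ := hm
        have e : x ^ (i ^ p - i) = 1 := by rw [hc, zpow_mul, zpow_natCast, hV.exp, one_zpow]
        rw [zpow_sub, mul_inv_eq_one] at e
        exact e.symm.trans h3.symm
      refine hu1 (MulEquiv.ext fun v => ?_)
      obtain ⟨r, q, rfl⟩ := hV.coords ha hxa v
      rw [map_mul, map_zpow, map_zpow, hua, ← hi', h4, MulAut.one_apply]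
    · rintro rfl ⟨g, n, rfl⟩
      refine Subtype.ext ?_
      show (⟨u, hu⟩ : H) ^ n • L = L
      have h1 : (⟨u, hu⟩ : H) ∈ MulAction.stabilizer H L := by
        rw [MulAction.mem_stabilizer_iff, hL, hsm, show ((⟨u, hu⟩ : H) : MulAut V) a = a from hua]
      exact MulAction.mem_stabilizer_iff.1 (zpow_mem h1 n)
  have hmod := hUp.card_modEq_card_fixedPoints O
  have hone : Nat.card (MulAction.fixedPoints U O) = 1 := by rw [hfixed]; simp
  rw [hone] at hmod
  obtain ⟨g, hg, hga⟩ := hirr a ha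
  have hone' : 1 < Nat.card O := Finite.one_lt_card_iff_nontrivial.2 ⟨⟨⟨L, MulAction.mem_orbit_self L⟩,
    ⟨(⟨g, hg⟩ : H) • L, MulAction.mem_orbit L _⟩, fun e => hga (by
      have e' : L = (⟨g, hg⟩ : H) • L := congrArg Subtype.val e
      rw [hL, hsm] at e'
      exact e'.ge (mem_zpowers _))⟩⟩
  choose gen hgen hgenK using hOl
  have hle : Nat.card O * (p - 1) ≤ p * p - 1 := by
    have h1 : Nat.card (O × Fin (p - 1)) ≤ Nat.card {v : V // v ≠ 1} := by
      refine Nat.card_le_card_of_injective (fun q => ⟨gen q.1 q.1.2 ^ ((q.2 : ℕ) + 1), fun e => ?_⟩) ?_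
      · have h := Nat.le_of_dvd (by omega) (orderOf_dvd_of_pow_eq_one e)
        rw [hV.order (hgen _ _)] at h
        have := q.2.2
        omega
      · rintro ⟨K, i⟩ ⟨K', i'⟩ e
        have e' : gen K K.2 ^ ((i : ℕ) + 1) = gen K' K'.2 ^ ((i' : ℕ) + 1) := congrArg Subtype.val e
        have hne : gen K K.2 ^ ((i : ℕ) + 1) ≠ 1 := fun e1 => by
          have h := Nat.le_of_dvd (by omega) (orderOf_dvd_of_pow_eq_one e1)
          rw [hV.order (hgen _ _)] at h
          have := i.2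
          omega
        have hz : ∀ (J : O) (n : ℕ), gen J J.2 ^ n ≠ 1 → zpowers (gen J J.2 ^ n) = (J : Subgroup V) :=
          fun J n hn => (Subgroup.eq_of_le_of_card_ge (zpowers_le.2 (pow_mem (mem_zpowers _) n))
            (by rw [hV.card_line (hgen _ _), hV.card_line hn])).trans (hgenK _ _).symm
        have hKK : K = K' := Subtype.ext (by rw [← hz K _ hne, e', hz K' _ (e' ▸ hne)])
        subst hKK
        have h3 := (pow_inj_mod.1 e')
        rw [hV.order (hgen _ _)] at h3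
        change ((i : ℕ) + 1) % p = ((i' : ℕ) + 1) % p at h3
        rw [Nat.mod_eq_of_lt (by have := i.2; omega), Nat.mod_eq_of_lt (by have := i'.2; omega)] at h3
        exact Prod.ext rfl (Fin.ext (show (i : ℕ) = i' by omega))
    have h2 : Nat.card {v : V // v ≠ 1} = p * p - 1 := by
      rw [Nat.card_eq_fintype_card, Fintype.card_subtype_compl, Fintype.card_subtype_eq,
        ← Nat.card_eq_fintype_card, hV.card, pow_two]
    rw [Nat.card_prod, Nat.card_fin, h2] at h1
    exact h1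
  have hcard : Nat.card O = p + 1 := by
    have h2 := hp.out.two_le
    have h1 : Nat.card O ≤ p + 1 := by
      by_contra hlt
      push Not at hlt
      have h3 := Nat.mul_le_mul_right (p - 1) (Nat.succ_le_of_lt hlt)
      obtain ⟨q, rfl⟩ : ∃ q, p = q + 1 := ⟨p - 1, by omega⟩
      simp only [Nat.add_sub_cancel] at h3 hle
      have e : (q + 1) * (q + 1) - 1 = q * q + 2 * q := by ring_nf; omega
      nlinarith
    obtain ⟨c, hc⟩ : p ∣ Nat.card O - 1 := (Nat.modEq_iff_dvd' hone'.le).1 hmod.symm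
    rcases Nat.lt_or_ge c 2 with h | h
    · interval_cases c <;> omega
    · nlinarith [Nat.mul_le_mul_left p h, Nat.sub_add_cancel hone'.le]
  rw [← hcard]
  exact ⟨Nat.card (MulAction.stabilizer H L), by
    rw [Subgroup.card_eq_card_quotient_mul_card_subgroup (MulAction.stabilizer H L),
      ← Nat.card_congr (MulAction.orbitEquivQuotientStabilizer H L)]⟩

/-- The primes dividing the order of an automorphism group of `3 ^ 2`. -/
theorem primes_three (h3 : p = 3) {H : Subgroup (MulAut V)} {r : ℕ} (hr : r.Prime) (hr2 : r ≠ 2)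
    (hr3 : r ≠ 3) : ¬ r ∣ Nat.card H := by
  intro hd
  haveI := Fact.mk hr
  obtain ⟨h, hh⟩ := exists_prime_orderOf_dvd_card' r hd
  subst h3
  have hc : Nat.card (zpowers (h : MulAut V)) = r := by
    rw [Nat.card_zpowers, Subgroup.orderOf_coe, hh]
  have h1 := (OddLocal.AutRankTwo.elementary_aut (p := 3) (by norm_num) hV.exp (by rw [hV.card])
    (B := zpowers (h : MulAut V)) (hc.symm ▸ hr.odd_of_ne_two hr2) (zpowers (h : MulAut V)).subtype).2 r hr
    (by rw [range_subtype, hc]) hr3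
  rcases h1 with e | e <;> norm_num at e
  · exact hr2 ((Nat.prime_dvd_prime_iff_eq hr Nat.prime_two).1 e)
  · exact hr2 ((Nat.prime_dvd_prime_iff_eq hr Nat.prime_two).1 (hr.dvd_of_dvd_pow (n := 2) (by norm_num; exact e)))

end Is

end Cfsg.Agent.QTCentZ.Plane
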