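import Cfsg.Agent.Lib.QTCentZ.Core
import Cfsg.Agent.Lib.QTCentZ.Plane
import Cfsg.Agent.Lib.QTXi.Main
import Cfsg.Agent.Lib.QTXi.Outer
import Cfsg.Agent.Lib.Cores.Fitting
import Cfsg.Agent.Lib.CharP.PushingUpMCL
import Cfsg.Agent.OddLocal.AutRankTwo

/-!
# Reduction to the Frattini quotients of small characteristic subgroups

In `A = M / O₂(M)` it suffices that the image of `C` on `R / Φ(R)` be a 2-group whenever `R` is a normal
subgroup of exponent `p` with two-dimensional Frattini quotient on which `T` is irreducible.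
-/

set_option autoImplicit false
set_option linter.unusedSectionVars false
set_option linter.style.haveILetI false

namespace Cfsg.Agent.QTCentZ

open Subgroup
open scoped commutatorElement

universe u

variable {G : Type u} [Group G] [Finite G]

/-- `M / O₂(M)`. -/
abbrev Bar (M : Subgroup G) := ↥M ⧸ Cfsg.pCore 2 ↥M

/-- The image in `M / O₂(M)`. -/
abbrev bar (M H : Subgroup G) : Subgroup (Bar M) :=
  (H.subgroupOf M).map (QuotientGroup.mk' (Cfsg.pCore 2 ↥M))

/-- The action on the Frattini quotient. -/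
def act {A : Type u} [Group A] (R : Subgroup A) [R.Normal] : A →* MulAut (↥R ⧸ frattini ↥R) :=
  (MonoidHom.mk' (fun e : MulAut R => QuotientGroup.congr (frattini ↥R) (frattini ↥R) e
      (Subgroup.characteristic_iff_map_eq.1 inferInstance e))
    fun e f => MulEquiv.ext fun q => by
      obtain ⟨x, rfl⟩ := QuotientGroup.mk'_surjective _ q
      rfl).comp MulAut.conjNormal

theorem act_apply {A : Type u} [Group A] (R : Subgroup A) [R.Normal] (a : A) (x : R) :
    act R a (QuotientGroup.mk' _ x) = QuotientGroup.mk' _ (MulAut.conjNormal a x) := rfl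

/-- An element of order prime to `p` trivial on the Frattini quotient centralises. -/
theorem cent_of_act {A : Type u} [Group A] [Finite A] {p : ℕ} [Fact p.Prime] {R : Subgroup A} [R.Normal]
    (hR : IsPGroup p R) {a : A} (ha : (orderOf a).Coprime p) (h : act R a = 1) :
    a ∈ centralizer (R : Set A) := by
  refine Coprime.le_centralizer_of_frattini (A := zpowers a) (K := R)
    ((zpowers_le.2 (by rw [normalizer_eq_top]; exact mem_top a))) ?_ ?_ (mem_zpowers a)
  · obtain ⟨k, hk⟩ := IsPGroup.iff_card.1 (hR.to_subgroup (frattini ↥R))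
    rw [Nat.card_zpowers, hk]
    exact ha.pow_right k
  · rintro _ ⟨i, rfl⟩ k hk
    have h1 : act R (a ^ i) (QuotientGroup.mk' _ (⟨k, hk⟩ : R)) = QuotientGroup.mk' _ (⟨k, hk⟩ : R) := by
      rw [map_zpow, h, one_zpow, MulAut.one_apply]
    rw [act_apply] at h1
    refine ⟨MulAut.conjNormal (a ^ i) (⟨k, hk⟩ : R) * (⟨k, hk⟩ : R)⁻¹, ?_, ?_⟩
    · rw [SetLike.mem_coe, ← QuotientGroup.eq_one_iff]
      show QuotientGroup.mk' _ _ = 1
      rw [map_mul, map_inv, h1, mul_inv_cancel]
    · rw [coe_subtype, Subgroup.coe_mul, Subgroup.coe_inv, MulAut.conjNormal_apply]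

/-- A small normal subgroup detecting the automorphisms of order prime to `p`. -/
theorem exists_small {A : Type u} [Group A] [Finite A] (hA : QTXi.RankTwo A) {p : ℕ} [Fact p.Prime]
    (hp2 : p ≠ 2) : ∃ (R : Subgroup A) (_ : R.Normal), IsPGroup p R ∧ (∀ x ∈ R, x ^ p = 1) ∧
      (frattini ↥R).index ∣ p ^ 2 ∧
      ∀ a : A, (orderOf a).Coprime p → act R a = 1 → a ∈ centralizer (Cfsg.pCore p A : Set A) := by
  set N := Cfsg.pCore p A with hN
  have hNp : IsPGroup p N := Cores.pCore_isPGroup p
  have hr : Cfsg.PRankLE p 2 N := fun E hEc hE => by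
    rw [← card_map_of_injective (K := E) N.subtype_injective]
    refine hA p Fact.out hp2 _ (map_isMulCommutative E _) ?_
    rintro _ ⟨y, hy, rfl⟩
    rw [← map_pow, hE y hy, map_one]
  obtain ⟨C, hC, hCexp, hidx, hdet⟩ := OddLocal.AutRankTwo.exists_char_small hp2 hNp hr
  set R := C.map N.subtype with hRdef
  haveI : R.Normal := inferInstance
  have hRp : IsPGroup p R := (hNp.to_subgroup C).map _
  refine ⟨R, inferInstance, hRp, ?_, ?_, fun a ha hact => ?_⟩
  · rintro _ ⟨x, hx, rfl⟩
    rw [← map_pow, hCexp x hx, map_one]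
  · have e : (frattini ↥C).map (C.equivMapOfInjective N.subtype N.subtype_injective).toMonoidHom = frattini ↥R := by
      refine le_antisymm (map_le_iff_le_comap.2 (frattini_le_comap_frattini_of_surjective
        (MulEquiv.surjective _))) fun y hy => ⟨(C.equivMapOfInjective N.subtype N.subtype_injective).symm y, ?_,
          MulEquiv.apply_symm_apply _ y⟩
      exact frattini_le_comap_frattini_of_surjective
        (φ := (C.equivMapOfInjective N.subtype N.subtype_injective).symm.toMonoidHom) (MulEquiv.surjective _) hy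
    rw [← e, index_map_of_bijective (MulEquiv.bijective _)]
    exact hidx
  · have hc := cent_of_act hRp ha hact
    have h1 := hdet (MulAut.conjNormal a)
      (ha.coprime_dvd_left (orderOf_map_dvd (MulAut.conjNormal : A →* MulAut N) a)) (fun x hx => by
        have e : MulAut.conjNormal a (x : N) = x := Subtype.ext (by
          rw [MulAut.conjNormal_apply,
            ← (show ((x : N) : A) * a = a * ((x : N) : A) from mem_centralizer_iff.1 hc _ ⟨x, x.2, rfl⟩),
            mul_inv_cancel_right])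
        rw [show (⟨MulAut.conjNormal a (x : N), hx⟩ : C) = x from Subtype.ext e, mul_inv_cancel]
        exact one_mem _)
    refine mem_centralizer_iff.2 fun x hx => ?_
    have h2 := congrArg (fun e : MulAut N => ((e ⟨x, hx⟩ : N) : A)) h1
    simp only [MulAut.conjNormal_apply, MulAut.one_apply] at h2
    exact (mul_inv_eq_iff_eq_mul.1 h2).symm

/-- The statement of the irreducible case. -/
def IrredTwo (T : Sylow 2 G) (M : Subgroup G) : Prop :=
  ∀ p : ℕ, p.Prime → p ≠ 2 → ∀ (R : Subgroup (Bar M)) (_ : R.Normal), IsPGroup p R →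
    (∀ x ∈ R, x ^ p = 1) → (frattini ↥R).index = p ^ 2 →
    (∀ v : ↥R ⧸ frattini ↥R, v ≠ 1 → ∃ s ∈ bar M (T : Subgroup G), act R s v ∉ zpowers v) →
    IsPGroup 2 ((bar M (cz T)).map (act R))

namespace Hyp

variable {T : Sylow 2 G} {M : Subgroup G} (h : Hyp T M)

include h

/-- An involution generated by the images of the elements of odd order of `C` is trivial. -/
theorem no_involution (hQT : Cfsg.IsQuasithin G) (hirr : IrredTwo T M) {t : Bar M}
    (ht : t ∈ closure {a | a ∈ bar M (cz T) ∧ Odd (orderOf a)}) (ht2 : t * t = 1) : t = 1 := by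
  classical
  haveI : Fact (Nat.Prime 2) := ⟨Nat.prime_two⟩
  haveI := h.solvable
  haveI : Group.IsSolvable (Bar M) := solvable_of_surjective (QuotientGroup.mk'_surjective _)
  have hrk : QTXi.RankTwo (Bar M) := QTXi.rankTwo_quotient (fun r hr hr2 => hQT r hr hr2 M h.mem.1.1) _
    (Cores.pCore_isPGroup 2)
  have hbot : Cfsg.pCore 2 (Bar M) = ⊥ := Cores.pCore_quotient_self 2
  set F := Cfsg.fittingSubgroup (Bar M) with hF
  suffices hc : ∀ p : ℕ, p.Prime → t ∈ centralizer (Cfsg.pCore p (Bar M) : Set (Bar M)) by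
    have htc : t ∈ centralizer (F : Set (Bar M)) := by
      refine mem_centralizer_iff.2 fun x hx => ?_
      have hle : F ≤ centralizer ({t} : Set (Bar M)) := by
        rw [hF, Cores.fittingSubgroup_eq_iSup]
        refine iSup_le fun q y hy => mem_centralizer_singleton_iff.2 ?_
        exact mem_centralizer_iff.1 (hc q (Nat.prime_of_mem_primeFactors q.2)) y hy
      exact mem_centralizer_singleton_iff.1 (hle hx)
    have htF := Cores.centralizer_fittingSubgroup_le htc
    have h2 : IsPGroup 2 (zpowers (⟨t, htF⟩ : F)) := by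
      obtain ⟨r, -, hr⟩ := (Nat.dvd_prime_pow Nat.prime_two).1
        (orderOf_dvd_of_pow_eq_one (show (⟨t, htF⟩ : F) ^ 2 ^ 1 = 1 from Subtype.ext (by simp [pow_two, ht2])))
      exact IsPGroup.of_card (n := r) (by rw [Nat.card_zpowers, hr])
    obtain ⟨S, hS⟩ := h2.exists_le_sylow
    exact mem_bot.1 (hbot ▸ (Cores.sylow_fitting_map S).le ⟨_, hS (mem_zpowers _), rfl⟩)
  intro p hp
  haveI := Fact.mk hp
  by_cases hp2 : p = 2
  · subst hp2; rw [hbot]; exact mem_centralizer_iff.2 fun x hx => by rw [mem_bot.1 hx]; simp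
  obtain ⟨R, hRn, hRp, hRexp, hidx, hdet⟩ := exists_small hrk hp2
  have hto : (orderOf t).Coprime p := ((Nat.coprime_primes Nat.prime_two hp).2 (Ne.symm hp2)).coprime_dvd_left
    (orderOf_dvd_of_pow_eq_one (by rw [pow_two, ht2]))
  refine hdet t hto ?_
  set D := bar M (cz T)
  set H := D.map (act R) with hH
  -- the image has odd residual
  suffices hres : (Nat.card (Cfsg.pResidual 2 H)).Coprime 2 by
    have htD : t ∈ D := (closure_le _).2 (fun a ha => ha.1) ht
    have hmem : (⟨act R t, mem_map_of_mem _ htD⟩ : H) ∈ Cfsg.pResidual 2 H := by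
      have hle : closure {a | a ∈ D ∧ Odd (orderOf a)} ≤ ((Cfsg.pResidual 2 H).map H.subtype).comap (act R) := by
        rw [closure_le]
        rintro a ⟨haD, hao⟩
        refine ⟨⟨act R a, mem_map_of_mem _ haD⟩, subset_closure ?_, rfl⟩
        show (orderOf (⟨act R a, _⟩ : H)).Coprime 2
        rw [Subgroup.orderOf_mk]
        exact (Nat.coprime_two_right.2 hao).coprime_dvd_left (orderOf_map_dvd (act R) a)
      obtain ⟨w, hw, hwe⟩ := hle ht
      rwa [show (⟨act R t, mem_map_of_mem _ htD⟩ : H) = w from Subtype.ext hwe.symm]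
    have h1 : orderOf (act R t) = 1 := by
      refine Nat.eq_one_of_dvd_coprimes hres ?_ (orderOf_dvd_of_pow_eq_one (by rw [← map_pow, pow_two, ht2, map_one]))
      have := Subgroup.orderOf_dvd_natCard _ hmem
      rwa [Subgroup.orderOf_mk] at this
    exact orderOf_eq_one_iff.1 h1
  letI hcg : CommGroup (↥R ⧸ frattini ↥R) :=
    { (inferInstance : Group (↥R ⧸ frattini ↥R)) with
      mul_comm := fun x y => by
        obtain ⟨x, rfl⟩ := QuotientGroup.mk'_surjective _ x
        obtain ⟨y, rfl⟩ := QuotientGroup.mk'_surjective _ y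
        haveI := hRp.isNilpotent
        rw [← commutatorElement_eq_one_iff_mul_comm, ← map_commutatorElement]
        exact (QuotientGroup.eq_one_iff _).mpr
          (Coprime.commutator_le_frattini ↥R (commutator_mem_commutator (mem_top x) (mem_top y))) }
  have hVexp : ∀ v : ↥R ⧸ frattini ↥R, v ^ p = 1 := fun v => by
    obtain ⟨x, rfl⟩ := QuotientGroup.mk'_surjective _ v
    rw [← map_pow, show x ^ p = 1 from Subtype.ext (hRexp x x.2), map_one]
  have hcard : Nat.card (↥R ⧸ frattini ↥R) = (frattini ↥R).index := (index_eq_card _).symm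
  obtain ⟨j, hj2, hj⟩ := (Nat.dvd_prime_pow hp).1 hidx
  rcases Nat.lt_or_ge j 2 with hj1 | hj1
  · -- cyclic
    haveI : IsCyclic (↥R ⧸ frattini ↥R) := by
      interval_cases j
      · haveI : Subsingleton (↥R ⧸ frattini ↥R) := (Nat.card_eq_one_iff_unique.1 (by rw [hcard, hj, pow_zero])).1
        infer_instance
      · exact isCyclic_of_prime_card (p := p) (by rw [hcard, hj, pow_one])
    refine Transfer.NormalPComplement.hasNormalPComplement_iff_pResidual.1
      (Transfer.NormalPComplement.hasNormalPComplement_of_normalizer_le_centralizer (default : Sylow 2 H)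
        fun g _ => mem_centralizer_iff.2 fun s _ => Subtype.ext ?_)
    exact (Perm.Fpf.mulAut_comm (↥R ⧸ frattini ↥R)).is_comm.comm _ _
  obtain rfl : j = 2 := by omega
  have hV : Plane.Is p (↥R ⧸ frattini ↥R) := ⟨hVexp, by rw [hcard, hj]⟩
  let incl : ↥(cz T) →* Bar M := (QuotientGroup.mk' _).comp (inclusion h.mem.2)
  let θ : ↥(cz T) →* H :=
    ((act R).comp incl).codRestrict H fun c => ⟨_, ⟨⟨c, h.mem.2 c.2⟩, c.2, rfl⟩, rfl⟩
  have hθ : Function.Surjective θ := by
    rintro ⟨_, _, ⟨m, hm, rfl⟩, rfl⟩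
    exact ⟨⟨m, hm⟩, rfl⟩
  by_cases hred : ∃ v : ↥R ⧸ frattini ↥R, v ≠ 1 ∧ ∀ s ∈ bar M (T : Subgroup G), act R s v ∈ zpowers v
  · obtain ⟨a, ha, hfix⟩ := hred
    refine Transfer.NormalPComplement.hasNormalPComplement_iff_pResidual.1
      (hV.complement hp2 ((T.subtype T_le_cz).mapSurjective hθ) ha fun s hs => ?_)
    obtain ⟨c, hc, rfl⟩ := hs
    exact hfix _ ⟨⟨c, h.mem.2 c.2⟩, hc, rfl⟩
  · push Not at hred
    have h2 := hirr p hp hp2 R hRn hRp hRexp hj hred
    exact Transfer.NormalPComplement.hasNormalPComplement_iff_pResidual.1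
      (Transfer.NormalPComplement.hasNormalPComplement_of_isPGroup h2)

/-- The elements of odd order of `C` centralise the span. -/
theorem odd_le (hQT : Cfsg.IsQuasithin G) (hirr : IrredTwo T M) :
    Cfsg.oddGenerated (cz T) ≤ centralizer (hull T M : Set G) := by
  classical
  haveI : Fact (Nat.Prime 2) := ⟨Nat.prime_two⟩
  set W := Cfsg.oddGenerated (cz T) with hWdef
  set V := hull T M with hVdef
  have hWc : W ≤ cz T := (closure_le _).2 fun x hx => hx.1
  have hWM : W ≤ M := hWc.trans h.mem.2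
  set O := Cfsg.pCoreOf 2 M with hOdef
  set W2 := W ⊓ O
  haveI : (W2.subgroupOf W).Normal := (normal_subgroupOf_iff_le_normalizer inf_le_left).2
    ((le_inf le_normalizer (hWM.trans (CharP.le_normalizer_pCoreOf 2 M))).trans
      inf_normalizer_le_normalizer_inf)
  -- the index is odd
  have hodd : Odd (W2.subgroupOf W).index := by
    have e1 : (W2.subgroupOf W).index = Nat.card (bar M W) := by
      show (W ⊓ O).relIndex W = _
      rw [inf_relIndex_left]
      show _ = Nat.card ((W.subgroupOf M).map (QuotientGroup.mk' (Cfsg.pCore 2 ↥M)))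
      rw [← relIndex_ker, QuotientGroup.ker_mk', hOdef, Cfsg.pCoreOf]
      conv_lhs => rw [← map_subgroupOf_eq_of_le hWM]
      exact relIndex_map_map_of_injective _ _ M.subtype_injective
    rw [e1, ← Nat.not_even_iff_odd, even_iff_two_dvd]
    intro hd
    obtain ⟨x, hx⟩ := exists_prime_orderOf_dvd_card' 2 hd
    have hle : bar M W ≤ closure {a | a ∈ bar M (cz T) ∧ Odd (orderOf a)} := by
      rintro _ ⟨w, hw, rfl⟩
      have hle' : W ≤ ((closure {a | a ∈ bar M (cz T) ∧ Odd (orderOf a)}).comap
          (QuotientGroup.mk' (Cfsg.pCore 2 ↥M))).map M.subtype := by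
        rw [hWdef, Cfsg.oddGenerated, closure_le]
        rintro c ⟨hc, hco⟩
        refine ⟨⟨c, h.mem.2 hc⟩, subset_closure ⟨⟨_, hc, rfl⟩, ?_⟩, rfl⟩
        refine Odd.of_dvd_nat hco ((orderOf_map_dvd (QuotientGroup.mk' (Cfsg.pCore 2 ↥M)) _).trans ?_)
        rw [Subgroup.orderOf_mk]
      obtain ⟨w', hw', hwe⟩ := hle' hw
      rwa [show w = w' from Subtype.ext hwe.symm]
    have h1 : (x : Bar M) * x = 1 := by
      have := pow_orderOf_eq_one x
      rw [hx, pow_two] at this
      exact congrArg Subtype.val this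
    have := h.no_involution hQT hirr (hle x.2) h1
    rw [← Subgroup.orderOf_coe, this, orderOf_one] at hx
    omega
  obtain ⟨Q, hQ⟩ := exists_right_complement'_of_coprime (N := W2.subgroupOf W) (by
    obtain ⟨k, hk⟩ := IsPGroup.iff_card.1
      (((CharP.isPGroup_pCoreOf 2 M).to_le (inf_le_right : W2 ≤ O)).comap_of_injective W.subtype W.subtype_injective)
    show (Nat.card (W2.comap W.subtype)).Coprime _
    rw [hk]
    exact (Nat.coprime_two_left.2 hodd).pow_left k)
  set Q' := Q.map W.subtype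
  have hQW : Q' ≤ W := map_subtype_le _
  have hVM : W ≤ normalizer (V : Set G) := hWM.trans le_normalizer_hull
  haveI : IsMulCommutative V := ⟨⟨fun a b => Subtype.ext
    ((InvChar.EvenChar.mem_zone.1 (h.hull_le b.2)).1.2 a (InvChar.EvenChar.mem_zone.1 (h.hull_le a.2)).1.1)⟩⟩
  have hVT : V ≤ (T : Subgroup G) := h.hull_le.trans ((InvChar.EvenChar.zone_le _).trans h.core_le)
  set U := ⁅V, W⁆
  have hUV : U ≤ V := Coprime.commutator_le_of_le_normalizer hVM
  refine Coprime.commutator_eq_bot_iff_le_centralizer'.1 ?_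
  by_contra hne
  have hTW : (T : Subgroup G) ≤ normalizer (W : Set G) := by
    refine Subgroup.le_normalizer_iff.2 fun t ht x hx => ?_
    have hle : W ≤ W.comap (MulAut.conj t).toMonoidHom := (closure_le _).2 fun y hy => subset_closure
      ⟨mul_mem (mul_mem (T_le_cz ht) hy.1) (Subgroup.inv_mem _ (T_le_cz ht)), by
        rw [orderOf_injective (MulAut.conj t).toMonoidHom (MulAut.conj t).injective]; exact hy.2⟩
    exact hle hx
  have hTU : (T : Subgroup G) ≤ normalizer (U : Set G) := by
    intro t ht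
    refine mem_normalizer_iff_map_conj_eq.2 ?_
    show (⁅V, W⁆ : Subgroup G).map (MulAut.conj t).toMonoidHom = _
    rw [map_commutator, show V.map (MulAut.conj t).toMonoidHom = V from
      mem_normalizer_iff_map_conj_eq.1 (le_normalizer_hull (T_le h.mem ht)),
      show W.map (MulAut.conj t).toMonoidHom = W from mem_normalizer_iff_map_conj_eq.1 (hTW ht)]
  obtain ⟨z, hz, hz1, hz2, hzc⟩ := QTXi.Outer.exists_central Nat.prime_two T.isPGroup' (hUV.trans hVT) hTU hne
  refine hz1 ?_
  have hzt : z ∈ zt T := InvChar.EvenChar.mem_zone.2 ⟨⟨hVT (hUV hz), hzc⟩, hz2⟩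
  have hUQ : U ≤ ⁅V, Q'⁆ := by
    rw [commutator_le]
    intro v hv w hw
    obtain ⟨⟨o, q⟩, he⟩ := hQ.2 ⟨w, hw⟩
    have he' : ((o : W) : G) * ((q : W) : G) = w := congrArg Subtype.val he
    have ho : ((o : W) : G) ∈ O := (show ((o : W) : G) ∈ W2 from o.2).2
    have hoV := mem_centralizer_iff.1 (h.core_cent ho)
    have hc : ⁅v, ((q : W) : G)⁆ ∈ (⁅V, Q'⁆ : Subgroup G) := commutator_mem_commutator hv ⟨q, q.2, rfl⟩
    have hcV : ⁅v, ((q : W) : G)⁆ ∈ V :=
      Coprime.commutator_le_of_le_normalizer hVM (commutator_mem_commutator hv (q : W).2)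
    rw [← he', show ⁅v, ((o : W) : G) * ((q : W) : G)⁆ = ⁅v, ((o : W) : G)⁆ *
      (((o : W) : G) * ⁅v, ((q : W) : G)⁆ * ((o : W) : G)⁻¹) by simp only [commutatorElement_def]; group,
      commutatorElement_eq_one_iff_mul_comm.2 (hoV v hv), one_mul, ← hoV _ hcV, mul_inv_cancel_right]
    exact hc
  have hzQ : z ∈ centralizer (Q' : Set G) := mem_centralizer_iff.2 fun q hq =>
    (mem_centralizer_iff.1 (hWc (hQW hq)) z hzt).symm
  have hcop : (Nat.card Q').Coprime (Nat.card V) := by
    obtain ⟨k, hk⟩ := IsPGroup.iff_card.1 (T.isPGroup'.to_le hVT)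
    rw [hk, card_map_of_injective W.subtype_injective]
    refine (Nat.coprime_two_right.2 ?_).pow_right k
    rw [hQ.symm.index_eq_card] at hodd
    exact hodd
  exact mem_bot.1 ((Coprime.inf_centralizer_inf_commutator (hQW.trans hVM) hcop).le
    ⟨⟨hUV hz, hzQ⟩, hUQ hz⟩)

end Hyp

/-- The centraliser is the Sylow subgroup once the irreducible case is settled. -/
theorem eq_of_irred {T : Sylow 2 G} {M : Subgroup G} (h : Hyp T M) (hQT : Cfsg.IsQuasithin G)
    (hirr : ∀ N, Hyp T N → IrredTwo T N) : cz T = (T : Subgroup G) := by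
  haveI : Fact (Nat.Prime 2) := ⟨Nat.prime_two⟩
  have hbot : Cfsg.oddGenerated (cz T) = ⊥ := by
    refine h.eq_bot_of_normal ((closure_le _).2 fun x hx => hx.1) fun N hN => ?_
    have h' : Hyp T N := by
      by_cases e : N = M
      · exact e ▸ h
      · exact h.flip hN e
    have hodd := h'.odd_le hQT (hirr N h')
    refine Subgroup.le_normalizer_iff.2 fun g hg x hx => ?_
    have hle : Cfsg.oddGenerated (cz T) ≤ (Cfsg.oddGenerated (cz T)).comap (MulAut.conj g).toMonoidHom := by
      refine (closure_le _).2 fun y hy => subset_closure ⟨Hyp.cent_le (T := T) (M := N) ?_, ?_⟩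
      · exact Subgroup.le_normalizer_iff.1 ((Hyp.le_normalizer_hull (T := T)).trans
          (CharP.normalizer_le_normalizer_centralizer _)) g hg y (hodd (subset_closure hy))
      · rw [orderOf_injective (MulAut.conj g).toMonoidHom (MulAut.conj g).injective]; exact hy.2
    exact hle hx
  have hC : IsPGroup 2 (cz T) := by
    refine IsPGroup.iff_orderOf.2 fun x => ?_
    obtain ⟨k, m, hm, he⟩ := Nat.exists_eq_two_pow_mul_odd (orderOf_pos x).ne'
    refine ⟨k, ?_⟩
    have h2 : ((x : G) ^ 2 ^ k) ∈ Cfsg.oddGenerated (cz T) := subset_closure ⟨pow_mem x.2 _, by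
      rw [orderOf_pow, Subgroup.orderOf_coe, he,
        Nat.gcd_eq_right (dvd_mul_right _ _), Nat.mul_div_cancel_left _ (Nat.two_pow_pos k)]
      exact hm⟩
    rw [hbot, mem_bot] at h2
    obtain ⟨r, hr, e⟩ := (Nat.dvd_prime_pow Nat.prime_two).1
      (orderOf_dvd_of_pow_eq_one (show x ^ 2 ^ k = 1 from Subtype.ext h2))
    rw [he] at e
    have hm1 : m = 1 := by
      by_contra hne
      obtain ⟨q, hq, hqm⟩ := Nat.exists_prime_and_dvd hne
      have := (Nat.prime_dvd_prime_iff_eq hq Nat.prime_two).1 (hq.dvd_of_dvd_pow (e ▸ hqm.mul_left _))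
      subst this
      exact Nat.not_even_iff_odd.2 hm (even_iff_two_dvd.2 hqm)
    rw [he, hm1, mul_one]
  exact T.is_maximal' hC Hyp.T_le_cz

end Cfsg.Agent.QTCentZ
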